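import Cfsg.Agent.Lib.SL2Deg.Gram

/-! Lower bounds for the number of conjugacy classes of `SL₂(F)`. -/

set_option autoImplicit false

open Matrix CfsgLib.SL2Trace

namespace CfsgLib.SL2Deg

variable {F : Type*} [Field F] [Fintype F] [DecidableEq F]

local notation "SL2" => Matrix.SpecialLinearGroup (Fin 2) F

theorem comp_ne_one (τ : F) : ¬ IsConj (comp τ : SL2) 1 := by
  intro h
  have h1 := congrArg (fun g : SL2 => (g : Matrix (Fin 2) (Fin 2) F) 1 0) (isConj_one_left.1 h)
  simp [coe_comp] at h1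

theorem comp_ne_negU {ν : F} (hν : ¬ IsSquare ν) {e : F} (he : e = 1 ∨ e = -1) :
    ¬ IsConj (mk2 e (-ν) 0 e (by rcases he with rfl | rfl <;> ring) : SL2) (comp (2 * e)) := by
  intro h
  obtain ⟨x, hx⟩ := isConj_iff.1 h
  rw [mul_inv_eq_iff_eq_mul, Matrix.SpecialLinearGroup.ext_iff] at hx
  have e00 := hx 0 0
  have e01 := hx 0 1
  have hd := det_coe x
  simp [Matrix.SpecialLinearGroup.coe_mul, Matrix.mul_apply, Fin.sum_univ_two, coe_comp, coe_mk2]
    at e00 e01
  have ha : ((x : Matrix (Fin 2) (Fin 2) F) 0 0) ^ 2 * ν = 1 := by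
    rcases he with rfl | rfl
    · linear_combination hd + (x : Matrix (Fin 2) (Fin 2) F) 0 1 * e00 -
        (x : Matrix (Fin 2) (Fin 2) F) 0 0 * e01
    · linear_combination hd + (x : Matrix (Fin 2) (Fin 2) F) 0 1 * e00 -
        (x : Matrix (Fin 2) (Fin 2) F) 0 0 * e01
  refine hν ⟨((x : Matrix (Fin 2) (Fin 2) F) 0 0)⁻¹, ?_⟩
  have h0 : (x : Matrix (Fin 2) (Fin 2) F) 0 0 ≠ 0 := by
    intro h0; simp [h0] at ha
  field_simp
  linear_combination ha

theorem card_classes_even : Fintype.card F + 1 ≤ Nat.card (ConjClasses SL2) := by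
  classical
  let g : Option F → SL2 := fun o => o.elim 1 comp
  have hinj : Function.Injective fun o => ConjClasses.mk (g o) := by
    intro a b hab
    have hc := ConjClasses.mk_eq_mk_iff_isConj.1 hab
    match a, b with
    | none, none => rfl
    | none, some τ => exact absurd hc.symm (comp_ne_one τ)
    | some τ, none => exact absurd hc (comp_ne_one τ)
    | some τ, some σ =>
      obtain ⟨x, hx⟩ := isConj_iff.1 hc
      have := congrArg (fun g : SL2 => (g : Matrix (Fin 2) (Fin 2) F).trace) hx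
      simp only [trace_mul_mul_inv, g, Option.elim] at this
      simp [coe_comp, Matrix.trace_fin_two] at this
      rw [this]
  have := Nat.card_le_card_of_injective _ hinj
  rwa [Nat.card_eq_fintype_card, Fintype.card_option] at this

theorem card_classes_odd (h2 : (2 : F) ≠ 0) :
    Fintype.card F + 4 ≤ Nat.card (ConjClasses SL2) := by
  classical
  obtain ⟨ν, hν⟩ := FiniteField.exists_nonsquare (F := F)
    (fun h => h2 (by
      have : CharP F 2 := ringChar.of_eq h
      exact_mod_cast CharP.cast_eq_zero F 2))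
  let V : Bool → SL2 := fun s => cond s (mk2 1 (-ν) 0 1 (by ring)) (mk2 (-1) (-ν) 0 (-1) (by ring))
  let Z : Bool → SL2 := fun s => cond s 1 (-1)
  let g : F ⊕ (Bool ⊕ Bool) → SL2 := Sum.elim comp (Sum.elim Z V)
  let tr : SL2 → F := fun g => (g : Matrix (Fin 2) (Fin 2) F).trace
  have htr : ∀ a b : SL2, IsConj a b → tr a = tr b := by
    intro a b hc
    obtain ⟨x, hx⟩ := isConj_iff.1 hc
    have h' := congrArg (fun g : SL2 => (g : Matrix (Fin 2) (Fin 2) F).trace) hx
    simp only [trace_mul_mul_inv] at h'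
    exact h'
  have h22 : (2 : F) ≠ -2 := fun h =>
    h2 (mul_self_eq_zero.1 (show (2 : F) * 2 = 0 by linear_combination h))
  have hZ : ∀ s, tr (Z s) = 2 * cond s 1 (-1) := by
    intro s; cases s <;> simp [tr, Z, Matrix.trace_fin_two] <;> ring
  have hV : ∀ s, tr (V s) = 2 * cond s 1 (-1) := by
    intro s; cases s <;> simp [tr, V, coe_mk2, Matrix.trace_fin_two] <;> ring
  have hC : ∀ τ : F, tr (comp τ) = τ := by
    intro τ; simp [tr, coe_comp, Matrix.trace_fin_two]
  have hbool : ∀ s s' : Bool, (2 : F) * cond s 1 (-1) = 2 * cond s' 1 (-1) → s = s' := by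
    intro s s' h
    cases s <;> cases s' <;> simp_all
  have hZc : ∀ (s : Bool) (g : SL2), IsConj (Z s) g → g = Z s := by
    intro s g hc
    obtain ⟨x, hx⟩ := isConj_iff.1 hc
    rw [← hx]
    cases s <;> simp [Z]
  have hVne : ∀ s s' : Bool, V s ≠ Z s' := by
    intro s s' h
    have := congrArg (fun g : SL2 => (g : Matrix (Fin 2) (Fin 2) F) 0 1) h
    have hν0 : ν ≠ 0 := fun e => hν (by rw [e]; exact IsSquare.zero)
    cases s <;> cases s' <;> simp [V, Z, coe_mk2, hν0] at this
  have hCne : ∀ (τ : F) (s : Bool), comp τ ≠ Z s := by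
    intro τ s h
    have := congrArg (fun g : SL2 => (g : Matrix (Fin 2) (Fin 2) F) 1 0) h
    cases s <;> simp [Z, coe_comp] at this
  have hVC : ∀ (s : Bool) (τ : F), ¬ IsConj (V s) (comp τ) := by
    intro s τ hc
    have h := htr _ _ hc
    rw [hV, hC] at h
    subst h
    cases s
    · exact comp_ne_negU hν (Or.inr rfl) hc
    · exact comp_ne_negU hν (Or.inl rfl) hc
  have hinj : Function.Injective fun o => ConjClasses.mk (g o) := by
    intro a b hab
    have hc := ConjClasses.mk_eq_mk_iff_isConj.1 hab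
    have ht := htr _ _ hc
    rcases a with τ | s | s <;> rcases b with σ | s' | s' <;> simp only [g, Sum.elim_inl, Sum.elim_inr] at hc ht
    · rw [hC, hC] at ht; rw [ht]
    · exact absurd (hZc _ _ hc.symm) (hCne τ s')
    · exact absurd hc.symm (hVC s' τ)
    · exact absurd (hZc _ _ hc) (hCne σ s)
    · rw [hZ, hZ] at ht; rw [hbool _ _ ht]
    · exact absurd (hZc _ _ hc) (hVne s' s)
    · exact absurd hc (hVC s σ)
    · exact absurd (hZc _ _ hc.symm) (hVne s s')
    · rw [hV, hV] at ht; rw [hbool _ _ ht]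
  have := Nat.card_le_card_of_injective _ hinj
  simpa [Nat.card_eq_fintype_card] using this

end CfsgLib.SL2Deg
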