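import Cfsg.Agent.Lib.SL2Deg.Mult
import Cfsg.Agent.Lib.SL2Deg.Classes

/-! The degree pattern of `SL₂(F)`, characteristic two. -/

set_option autoImplicit false

open scoped ComplexConjugate
open Matrix CfsgLib.SL2Trace CfsgLib.SL2Borel

namespace CfsgLib.SL2Deg

variable {F : Type*} [Field F] [Fintype F] [DecidableEq F]

local notation "SL2" => Matrix.SpecialLinearGroup (Fin 2) F

variable {ψ : AddChar F ℂ}

theorem mult_eq_one_of_two [CharP F 2] {t : F} (ht : t ≠ 0) (χ : Cfsg.IrrCharacter SL2) :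
    mult ψ t χ = mult ψ 1 χ := by
  obtain ⟨c, rfl⟩ := FiniteField.isSquare_of_char_two (ringChar.eq F 2) t
  have hc : c ≠ 0 := fun e => ht (by rw [e, mul_zero])
  rw [← mult_scale (Units.mk0 c hc) (1 : F) χ]
  simp [pow_two]

theorem apply_one_even [CharP F 2] (hψ : ψ.IsPrimitive) (χ : Cfsg.IrrCharacter SL2) :
    (χ : SL2 → ℂ) 1 = ((mult ψ 0 χ + (Fintype.card F - 1) * mult ψ 1 χ : ℕ) : ℂ) := by
  rw [apply_one_eq_sum hψ, ← Finset.add_sum_erase _ _ (Finset.mem_univ (0 : F)),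
    Finset.sum_congr rfl (g := fun _ => mult ψ 1 χ)
      (fun t ht => mult_eq_one_of_two (Finset.ne_of_mem_erase ht) χ),
    Finset.sum_const, smul_eq_mul, Finset.card_erase_of_mem (Finset.mem_univ _), Finset.card_univ]

/-- Full pattern of multiplicities, `q` even. -/
theorem even_table [CharP F 2] (hψ : ψ.IsPrimitive) :
    ∃ (P St : Cfsg.IrrCharacter SL2) (D E : Finset (Cfsg.IrrCharacter SL2)),
      (P : SL2 → ℂ) = (fun _ => 1) ∧ (∀ g, (St : SL2 → ℂ) g = R (1 : MulChar F ℂ) g - 1) ∧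
      (mult ψ 0 P = 1 ∧ mult ψ 1 P = 0) ∧ (mult ψ 0 St = 1 ∧ mult ψ 1 St = 1) ∧
      (∀ χ ∈ D, mult ψ 0 χ = 2 ∧ mult ψ 1 χ = 1) ∧ (∀ χ ∈ E, mult ψ 0 χ = 0 ∧ mult ψ 1 χ = 1) ∧
      2 * D.card + 2 = Fintype.card F ∧ 2 * E.card = Fintype.card F ∧
      Nat.card (Cfsg.IrrCharacter SL2) = Fintype.card F + 1 ∧
      ∀ g : Cfsg.IrrCharacter SL2 → ℂ, ∑ χ, g χ = g P + g St + ∑ χ ∈ D, g χ + ∑ χ ∈ E, g χ := by
  classical
  obtain ⟨P, St, hPSt, hP, hStval, hPm, hStm, hcov⟩ := exists_principal_pair (ψ := ψ) hψ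
  have p0 : mult ψ 0 P = 1 := by simp [hPm]
  have p1 : mult ψ 1 P = 0 := by simp [hPm]
  have s0 := hStm 0
  have s1 := hStm 1
  set W := (Finset.univ : Finset (Cfsg.IrrCharacter SL2)) \ {P, St} with hW
  have hsplit : ∀ {M : Type} [AddCommMonoid M] (g : Cfsg.IrrCharacter SL2 → M),
      ∑ χ, g χ = g P + g St + ∑ χ ∈ W, g χ := by
    intro M _ g
    rw [← Finset.sum_sdiff (Finset.subset_univ ({P, St} : Finset _)), ← hW,
      Finset.sum_pair hPSt]
    abel
  set D := W.filter fun χ => mult ψ 0 χ ≠ 0 with hD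
  set E := W.filter fun χ => ¬ mult ψ 0 χ ≠ 0 with hE
  have hDE : ∀ {M : Type} [AddCommMonoid M] (g : Cfsg.IrrCharacter SL2 → M),
      ∑ χ ∈ W, g χ = ∑ χ ∈ D, g χ + ∑ χ ∈ E, g χ := fun g =>
    (Finset.sum_filter_add_sum_filter_not W _ g).symm
  have hDv : ∀ χ ∈ D, mult ψ 0 χ = 2 ∧ mult ψ 1 χ = 1 := by
    intro χ hχ
    rw [hD, Finset.mem_filter, hW, Finset.mem_sdiff, Finset.mem_insert, Finset.mem_singleton] at hχ
    obtain ⟨α, hα⟩ := exists_R_constituent χ hχ.2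
    by_cases hr : α⁻¹ = α
    · have h1 : α = 1 := real_eq_one_of_square hr fun a ha =>
        absurd (FiniteField.isSquare_of_char_two (ringChar.eq F 2) _) ha
      subst h1
      exact absurd (hcov χ hα) hχ.1.2
    · simp [mult_of_nonreal hψ hr hα]
  have hE0 : ∀ χ ∈ E, mult ψ 0 χ = 0 := fun χ hχ => by
    rw [hE, Finset.mem_filter] at hχ; exact not_not.1 hχ.2
  have e00 := gram_zero_zero (ψ := ψ) hψ
  rw [hsplit, p0, s0, hDE, Finset.sum_congr rfl (s₂ := D) (g := fun _ => 4)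
      (fun χ h => by rw [(hDv χ h).1]),
    Finset.sum_eq_zero (s := E) (fun χ h => by rw [hE0 χ h, zero_mul]), Finset.sum_const,
    smul_eq_mul] at e00
  have hsel : (Finset.univ.filter fun a : Fˣ => (1 : F) * (a : F) ^ 2 = 1).card = 1 := by
    rw [Finset.card_eq_one]
    refine ⟨1, ?_⟩
    ext a
    simp only [Finset.mem_filter, Finset.mem_univ, true_and, Finset.mem_singleton, one_mul,
      sq_eq_one_iff, Units.ext_iff, Units.val_one, CharTwo.neg_eq, or_self]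
  have e11 := gram_nat (ψ := ψ) hψ (1 : F) 1
  rw [hsel, hsplit, p1, s1, hDE, Finset.sum_congr rfl (s₂ := D) (g := fun _ => 1)
      (fun χ h => by rw [(hDv χ h).2]), Finset.sum_const, smul_eq_mul] at e11
  have hk : Fintype.card F + 1 ≤ 2 + D.card + E.card := by
    have h1 := card_classes_even (F := F)
    rw [← CfsgLib.Char.card_irrCharacter, Nat.card_eq_fintype_card] at h1
    have h3 := hsplit (fun _ => (1 : ℕ))
    rw [hDE] at h3
    simp only [Finset.sum_const, smul_eq_mul, mul_one, Finset.card_univ] at h3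
    omega
  have hpos : ∀ χ ∈ E, 1 ≤ mult ψ 1 χ * mult ψ 1 χ := by
    intro χ hχ
    refine Nat.one_le_iff_ne_zero.2 fun h0 => CfsgLib.Char.IsIrrCharacter.apply_one_ne_zero χ.2 ?_
    rw [apply_one_even hψ, hE0 χ hχ, (mul_self_eq_zero.1 h0), mul_zero, add_zero, Nat.cast_zero]
  have hle := Finset.sum_le_sum hpos
  simp only [Finset.sum_const, smul_eq_mul, mul_one] at hle
  have heq : ∀ χ ∈ E, 1 = mult ψ 1 χ * mult ψ 1 χ := by
    refine (Finset.sum_eq_sum_iff_of_le hpos).1 ?_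
    simp only [Finset.sum_const, smul_eq_mul, mul_one]
    omega
  refine ⟨P, St, D, E, hP, hStval, ⟨p0, p1⟩, ⟨s0, s1⟩, hDv,
    fun χ h => ⟨hE0 χ h, Nat.eq_one_of_mul_eq_one_right (heq χ h).symm⟩, by omega, by omega, ?_,
    fun g => ?_⟩
  · rw [Nat.card_eq_fintype_card]
    have h3 := hsplit (fun _ => (1 : ℕ))
    rw [hDE] at h3
    simp only [Finset.sum_const, smul_eq_mul, mul_one, Finset.card_univ] at h3
    omega
  · rw [hsplit, hDE]
    abel

end CfsgLib.SL2Deg
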