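import Cfsg.Agent.Lib.SL2Deg.Mult
import Cfsg.Agent.Lib.SL2Deg.Classes

/-! The degree pattern of `SL₂(F)`. -/

set_option autoImplicit false

open scoped ComplexConjugate
open Matrix CfsgLib.SL2Trace CfsgLib.SL2Borel

namespace CfsgLib.SL2Deg

variable {F : Type*} [Field F] [Fintype F] [DecidableEq F]

local notation "SL2" => Matrix.SpecialLinearGroup (Fin 2) F

variable (ψ : AddChar F ℂ) (ν : F)

/-- The multiplicities at `0`, `1`, `ν`. -/
def Vec (χ : Cfsg.IrrCharacter SL2) (f m n : ℕ) : Prop :=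
  mult ψ 0 χ = f ∧ mult ψ 1 χ = m ∧ mult ψ ν χ = n

variable {ψ} {ν}

theorem mult_of_square {t : F} (ht : t ≠ 0) (h : IsSquare t) (χ : Cfsg.IrrCharacter SL2) :
    mult ψ t χ = mult ψ 1 χ := by
  obtain ⟨c, rfl⟩ := h
  have hc : c ≠ 0 := fun e => ht (by rw [e, mul_zero])
  rw [← mult_scale (Units.mk0 c hc) (1 : F) χ]
  simp [pow_two]

theorem mult_of_nonsquare (hν : ¬ IsSquare ν) {t : F} (h : ¬ IsSquare t)
    (χ : Cfsg.IrrCharacter SL2) : mult ψ t χ = mult ψ ν χ := by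
  obtain ⟨c, hc0, rfl⟩ := isSquare_div_of_not hν h
  exact mult_scale (Units.mk0 c hc0) ν χ

theorem apply_one_of_vec (hψ : ψ.IsPrimitive) (hν : ¬ IsSquare ν) {χ : Cfsg.IrrCharacter SL2}
    {f m n : ℕ} (h : Vec ψ ν χ f m n) :
    (χ : SL2 → ℂ) 1 = ((f + (Fintype.card F - 1) / 2 * (m + n) : ℕ) : ℂ) := by
  classical
  obtain ⟨hf, hm, hn⟩ := h
  rw [apply_one_eq_sum hψ]
  congr 1
  have hν0 : ν ≠ 0 := fun e => hν (by rw [e]; exact IsSquare.zero)
  set S := Finset.univ.erase (0 : F) with hS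
  have hcard : (S.filter fun t => IsSquare t).card = (S.filter fun t => ¬ IsSquare t).card := by
    refine Finset.card_bij' (fun t _ => t * ν) (fun t _ => t * ν⁻¹) ?_ ?_ ?_ ?_
    · intro t ht
      simp only [hS, Finset.mem_filter, Finset.mem_erase, Finset.mem_univ, and_true] at ht ⊢
      refine ⟨mul_ne_zero ht.1 hν0, fun hsq => hν ?_⟩
      obtain ⟨c, hc⟩ := ht.2
      obtain ⟨d, hd⟩ := hsq
      have hc0 : c ≠ 0 := fun e => ht.1 (by rw [hc, e, mul_zero])
      refine ⟨d / c, ?_⟩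
      field_simp
      rw [hc] at hd
      linear_combination hd
    · intro t ht
      simp only [hS, Finset.mem_filter, Finset.mem_erase, Finset.mem_univ, and_true] at ht ⊢
      refine ⟨mul_ne_zero ht.1 (inv_ne_zero hν0), ?_⟩
      obtain ⟨c, hc0, hc⟩ := isSquare_div_of_not hν ht.2
      exact ⟨c, by rw [← hc]; field_simp⟩
    · intro t _
      field_simp
    · intro t _
      field_simp
  have htot := Finset.card_filter_add_card_filter_not (s := S) (fun t => IsSquare t)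
  rw [Finset.card_erase_of_mem (Finset.mem_univ _), Finset.card_univ] at htot
  rw [← Finset.add_sum_erase _ _ (Finset.mem_univ (0 : F)), hf,
    ← Finset.sum_filter_add_sum_filter_not S (fun t => IsSquare t),
    Finset.sum_congr rfl (g := fun _ => m) (fun t ht => by
      rw [Finset.mem_filter] at ht
      rw [mult_of_square (Finset.ne_of_mem_erase ht.1) ht.2, hm]),
    Finset.sum_congr rfl (s₂ := S.filter fun t => ¬ IsSquare t) (g := fun _ => n) (fun t ht => by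
      rw [Finset.mem_filter] at ht
      rw [mult_of_nonsquare hν ht.2, hn]),
    Finset.sum_const, Finset.sum_const, smul_eq_mul, smul_eq_mul, ← hcard]
  rw [show (Fintype.card F - 1) / 2 = (S.filter fun t => IsSquare t).card by omega]
  ring

/-- `-1` is a commutator. -/
theorem exists_anticomm (hq : Fintype.card F % 2 = 1) : ∃ x y : SL2, x * y * x⁻¹ * y⁻¹ = -1 := by
  obtain ⟨a, b, hab⟩ := FiniteField.exists_root_sum_quadratic
    (f := Polynomial.X ^ 2) (g := Polynomial.X ^ 2 + Polynomial.C (1 : F))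
    (Polynomial.degree_X_pow 2) (Polynomial.degree_X_pow_add_C (by norm_num) _)
    hq
  simp at hab
  refine ⟨mk2 0 (-1) 1 0 (by ring), mk2 a b b (-a) (by linear_combination -hab), ?_⟩
  rw [mul_inv_eq_iff_eq_mul, mul_inv_eq_iff_eq_mul]
  refine Matrix.SpecialLinearGroup.ext _ _ fun i j => ?_
  rw [Matrix.SpecialLinearGroup.coe_mul, Matrix.SpecialLinearGroup.coe_mul,
    Matrix.SpecialLinearGroup.coe_mul, Matrix.SpecialLinearGroup.coe_neg,
    Matrix.SpecialLinearGroup.coe_one, coe_mk2, coe_mk2]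
  fin_cases i <;> fin_cases j <;> simp [Matrix.mul_apply, Fin.sum_univ_two]

/-- Over three elements, linear characters are not constituents of the quadratic principal series. -/
theorem inner_linear_eq_zero {η : MulChar F ℂ} (hη : η⁻¹ = η) (hη1 : η ≠ 1)
    (h3 : Fintype.card F = 3) {χ : SL2 → ℂ} (hχ : Cfsg.IsIrrCharacter SL2 χ) (h1 : χ 1 = 1) :
    Cfsg.classInner (R η) χ = 0 := by
  classical
  obtain ⟨f, rfl⟩ := CfsgLib.Char.isIrrCharacter_degree_one_iff.1 ⟨hχ, h1⟩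
  obtain ⟨x, y, hxy⟩ := exists_anticomm (F := F) (by omega)
  have hm : f (-1) = 1 := by
    rw [← hxy, map_mul, map_mul, map_mul, map_inv, map_inv, mul_comm (f x), mul_inv_cancel_right,
      mul_inv_cancel]
  rw [classInner_R_left η (CfsgLib.Char.IsIrrCharacter.isClassFunction hχ)]
  have hne : (1 : Fˣ) ≠ -1 := by
    intro e
    have := congrArg Units.val e
    simp only [Units.val_one, Units.val_neg] at this
    have h2 : (2 : F) = 0 := by linear_combination this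
    have : CharP F 2 := CharTwo.of_one_ne_zero_of_two_eq_zero one_ne_zero h2
    have := FiniteField.even_card_of_char_two (F := F) (ringChar.eq F 2)
    omega
  have huniv : (Finset.univ : Finset Fˣ) = {1, -1} := by
    refine (Finset.eq_univ_of_card _ ?_).symm
    rw [Finset.card_pair hne, Fintype.card_units, h3]
  have hneg : η ((-1 : Fˣ) : F) = -1 := by
    have h := MulChar.sum_eq_zero_of_ne_one hη1
    have hz : ∑ a : F, η a = η 1 + η (-1) := by
      have h0 : ∑ a : Fˣ, η (a : F) = ∑ x ∈ Finset.univ.erase (0 : F), η x :=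
        Finset.sum_bij (fun a _ => (a : F)) (fun a _ => by simp) (fun a _ b _ h => Units.ext h)
          (fun x hx => ⟨Units.mk0 x (Finset.ne_of_mem_erase hx), by simp, rfl⟩) (fun a _ => rfl)
      rw [Finset.sum_erase _ (MulChar.map_zero η), huniv, Finset.sum_pair hne] at h0
      rw [← h0]
      simp
    rw [hz, map_one] at h
    rw [Units.val_neg, Units.val_one]
    linear_combination h
  have hb : ∀ v : F, (bMk (-1 : Fˣ) v : SL2) = (-1) * u (-v) := by
    intro v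
    refine Matrix.SpecialLinearGroup.ext _ _ fun i j => ?_
    rw [Matrix.SpecialLinearGroup.coe_mul, coe_u, bMk_coe, Matrix.SpecialLinearGroup.coe_neg,
      Matrix.SpecialLinearGroup.coe_one]
    fin_cases i <;> fin_cases j <;> simp
  have hsum : ∑ v : F, conj ((f (bMk (-1 : Fˣ) v : SL2) : ℂˣ) : ℂ) =
      ∑ v : F, conj ((f (bMk (1 : Fˣ) v : SL2) : ℂˣ) : ℂ) := by
    simp only [hb, map_mul, hm, one_mul, u]
    exact Fintype.sum_equiv (Equiv.neg F) _ _ fun v => rfl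
  rw [huniv, Finset.sum_pair hne, hsum, hneg, Units.val_one, map_one]
  ring

set_option maxHeartbeats 1000000 in
/-- Full pattern of multiplicities, `q` odd. -/
theorem odd_table (hψ : ψ.IsPrimitive) (h2 : (2 : F) ≠ 0) (h5 : 3 ≤ Fintype.card F)
    (hodd : Odd (Fintype.card F)) (hν : ¬ IsSquare ν) :
    ∃ (P St A B C C' : Cfsg.IrrCharacter SL2) (D E : Finset (Cfsg.IrrCharacter SL2)),
      (P : SL2 → ℂ) = (fun _ => 1) ∧ (∀ g, (St : SL2 → ℂ) g = R (1 : MulChar F ℂ) g - 1) ∧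
      Vec ψ ν P 1 0 0 ∧ Vec ψ ν St 1 1 1 ∧ Vec ψ ν A 1 1 0 ∧ Vec ψ ν B 1 0 1 ∧
      Vec ψ ν C 0 1 0 ∧ Vec ψ ν C' 0 0 1 ∧
      (∀ χ ∈ D, Vec ψ ν χ 2 1 1) ∧ (∀ χ ∈ E, Vec ψ ν χ 0 1 1) ∧
      2 * D.card + 3 = Fintype.card F ∧ 2 * E.card + 1 = Fintype.card F ∧
      Nat.card (Cfsg.IrrCharacter SL2) = Fintype.card F + 4 ∧
      ∀ g : Cfsg.IrrCharacter SL2 → ℂ,
        ∑ χ, g χ = g P + g St + g A + g B + g C + g C' + ∑ χ ∈ D, g χ + ∑ χ ∈ E, g χ := by
  classical
  obtain ⟨P, St, hPSt, hP, hStval, hPm, hStm, hcov1⟩ := exists_principal_pair (ψ := ψ) hψ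
  have hν0 : ν ≠ 0 := fun e => hν (by rw [e]; exact IsSquare.zero)
  obtain ⟨η, hη, hη1⟩ : ∃ η : MulChar F ℂ, η⁻¹ = η ∧ η ≠ 1 := by
    refine ⟨(quadraticChar F).ringHomComp (Int.castRingHom ℂ),
      ((quadraticChar_isQuadratic F).comp _).inv, ?_⟩
    rw [MulChar.ringHomComp_ne_one_iff Int.cast_injective]
    exact quadraticChar_ne_one (fun h => h2 (by
      have : CharP F 2 := ringChar.of_eq h
      exact_mod_cast CharP.cast_eq_zero F 2))
  obtain ⟨A₀, B₀, hAB₀, hsum, hcovη⟩ := two_constituents (exists_nat_classInner_R η) (by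
    rw [classInner_R, if_pos rfl, if_pos hη.symm]; norm_num)
  have hinn : ∀ χ : Cfsg.IrrCharacter SL2, χ = A₀ ∨ χ = B₀ →
      Cfsg.classInner (R η) (χ : SL2 → ℂ) = 1 := by
    intro χ hχ
    rw [hsum, CfsgLib.Char.classInner_add_left, CfsgLib.Char.classInner_irrCharacter,
      CfsgLib.Char.classInner_irrCharacter]
    rcases hχ with e | e <;> subst e
    · rw [if_pos rfl, if_neg hAB₀.symm, add_zero]
    · rw [if_neg hAB₀, if_pos rfl, zero_add]
  have hsumm : ∀ t : F, mult ψ t A₀ + mult ψ t B₀ = 1 + (if t = 0 then 1 else 0) := by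
    intro t
    have h := coef_R ψ hψ η t
    rw [hsum, coef_add, mult_spec, mult_spec] at h
    have h' : ((mult ψ t A₀ + mult ψ t B₀ : ℕ) : ℂ) =
        ((1 + (if t = 0 then 1 else 0) : ℕ) : ℂ) := by push_cast; exact h
    exact_mod_cast h'
  have hf : mult ψ 0 A₀ = 1 ∧ mult ψ 0 B₀ = 1 := by
    have h0 := hsumm 0
    simp only [if_true] at h0
    have hA := mult_zero_ne_zero (ψ := ψ) (α := η) (χ := A₀) (by rw [hinn _ (Or.inl rfl)]; exact one_ne_zero)
    have hB := mult_zero_ne_zero (ψ := ψ) (α := η) (χ := B₀) (by rw [hinn _ (Or.inr rfl)]; exact one_ne_zero)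
    omega
  have hnot : ∀ χ : Cfsg.IrrCharacter SL2, χ = A₀ ∨ χ = B₀ → mult ψ 0 χ = 1 →
      mult ψ 1 χ + mult ψ ν χ ≠ 0 := by
    intro χ hχ hf h0
    have hdeg := apply_one_of_vec hψ hν (χ := χ)
      (f := 1) (m := 0) (n := 0) ⟨hf, by omega, by omega⟩
    simp only [add_zero, mul_zero, Nat.cast_one] at hdeg
    have := hinn χ hχ
    have h0 : Cfsg.classInner (R η) (χ : SL2 → ℂ) = 0 := by
      by_cases h4 : 4 ≤ Fintype.card F
      · rw [eq_one_of_degree_one h4 χ.2 hdeg, R_ne_inner_one hη1]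
      · exact inner_linear_eq_zero hη hη1 (by obtain ⟨k, hk⟩ := hodd; omega) χ.2 hdeg
    rw [h0] at this
    exact zero_ne_one this
  obtain ⟨A, B, hA, hB, hcovη⟩ : ∃ A B : Cfsg.IrrCharacter SL2, Vec ψ ν A 1 1 0 ∧ Vec ψ ν B 1 0 1 ∧
      ∀ χ : Cfsg.IrrCharacter SL2, Cfsg.classInner (R η) (χ : SL2 → ℂ) ≠ 0 → χ = A ∨ χ = B := by
    have h1 := hsumm 1
    have hn := hsumm ν
    simp only [one_ne_zero, hν0, if_false, add_zero] at h1 hn
    have hA' := hnot A₀ (Or.inl rfl) hf.1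
    have hB' := hnot B₀ (Or.inr rfl) hf.2
    by_cases hc : mult ψ 1 A₀ = 1
    · exact ⟨A₀, B₀, ⟨hf.1, hc, by omega⟩, ⟨hf.2, by omega, by omega⟩, hcovη⟩
    · exact ⟨B₀, A₀, ⟨hf.2, by omega, by omega⟩, ⟨hf.1, by omega, by omega⟩,
        fun χ h => (hcovη χ h).symm⟩
  have hPv : Vec ψ ν P 1 0 0 := by simp [Vec, hPm, hν0]
  have hStv : Vec ψ ν St 1 1 1 := ⟨hStm _, hStm _, hStm _⟩
  set W := (Finset.univ : Finset (Cfsg.IrrCharacter SL2)) \ {P, St, A, B} with hW
  have hne : ∀ {x y : Cfsg.IrrCharacter SL2} {f m n f' m' n' : ℕ}, Vec ψ ν x f m n →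
      Vec ψ ν y f' m' n' → ¬ (f = f' ∧ m = m' ∧ n = n') → x ≠ y := by
    rintro x y f m n f' m' n' ⟨a, b, c⟩ ⟨a', b', c'⟩ hd rfl
    exact hd ⟨a.symm.trans a', b.symm.trans b', c.symm.trans c'⟩
  have hPA := hne hPv hA (by omega)
  have hPB := hne hPv hB (by omega)
  have hSA := hne hStv hA (by omega)
  have hSB := hne hStv hB (by omega)
  have hAB := hne hA hB (by omega)
  have hsplit : ∀ {M : Type} [AddCommMonoid M] (g : Cfsg.IrrCharacter SL2 → M),
      ∑ χ, g χ = g P + g St + g A + g B + ∑ χ ∈ W, g χ := by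
    intro M _ g
    rw [← Finset.sum_sdiff (Finset.subset_univ ({P, St, A, B} : Finset _)), ← hW,
      Finset.sum_insert (by simp [hPSt, hPA, hPB]), Finset.sum_insert (by simp [hSA, hSB]),
      Finset.sum_pair hAB]
    abel
  have hDvec : ∀ χ ∈ W, mult ψ 0 χ ≠ 0 → Vec ψ ν χ 2 1 1 := by
    intro χ hχ h0
    obtain ⟨α, hα⟩ := exists_R_constituent χ h0
    by_cases hr : α⁻¹ = α
    · simp only [hW, Finset.mem_sdiff, Finset.mem_univ, true_and, Finset.mem_insert,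
        Finset.mem_singleton, not_or] at hχ
      by_cases h1 : α = 1
      · subst h1
        rcases hcov1 χ hα with e | e
        · exact absurd e hχ.1
        · exact absurd e hχ.2.1
      · rw [real_unique hr hη h1 hη1] at hα
        rcases hcovη χ hα with e | e
        · exact absurd e hχ.2.2.1
        · exact absurd e hχ.2.2.2
    · simp [Vec, mult_of_nonreal hψ hr hα, hν0]
  set D := W.filter fun χ => mult ψ 0 χ ≠ 0 with hD
  set Q := W.filter fun χ => ¬ mult ψ 0 χ ≠ 0 with hQ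
  have hDQ : ∀ {M : Type} [AddCommMonoid M] (g : Cfsg.IrrCharacter SL2 → M),
      ∑ χ ∈ W, g χ = ∑ χ ∈ D, g χ + ∑ χ ∈ Q, g χ := fun g =>
    (Finset.sum_filter_add_sum_filter_not W _ g).symm
  have hDv : ∀ χ ∈ D, Vec ψ ν χ 2 1 1 := fun χ hχ => by
    rw [hD, Finset.mem_filter] at hχ; exact hDvec χ hχ.1 hχ.2
  have hQ0 : ∀ χ ∈ Q, mult ψ 0 χ = 0 := fun χ hχ => by
    rw [hQ, Finset.mem_filter] at hχ; exact not_not.1 hχ.2
  obtain ⟨a0, a1, a2⟩ := hA
  obtain ⟨b0, b1, b2⟩ := hB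
  obtain ⟨p0, p1, p2⟩ := hPv
  obtain ⟨s0, s1, s2⟩ := hStv
  have hDsum : ∀ (g : Cfsg.IrrCharacter SL2 → ℕ) (c : ℕ), (∀ χ ∈ D, g χ = c) →
      ∑ χ ∈ D, g χ = D.card * c := fun g c h => by
    rw [Finset.sum_congr rfl h, Finset.sum_const, smul_eq_mul]
  -- the five Gram entries
  have e00 := gram_zero_zero (ψ := ψ) hψ
  rw [hsplit, p0, s0, a0, b0, hDQ, hDsum _ 4 (fun χ h => by rw [(hDv χ h).1]),
    Finset.sum_eq_zero (s := Q) (fun χ h => by rw [hQ0 χ h, zero_mul])] at e00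
  have hsel : ∀ t : F, t ≠ 0 → (Finset.univ.filter fun a : Fˣ => t * (a : F) ^ 2 = t).card = 2 := by
    intro t ht
    have hset : (Finset.univ.filter fun a : Fˣ => t * (a : F) ^ 2 = t) = {1, -1} := by
      ext a
      simp only [Finset.mem_filter, Finset.mem_univ, true_and, Finset.mem_insert,
        Finset.mem_singleton, mul_eq_left₀ ht, sq_eq_one_iff, Units.ext_iff, Units.val_one,
        Units.val_neg]
    rw [hset, Finset.card_pair]
    intro e
    have := congrArg Units.val e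
    simp only [Units.val_one, Units.val_neg] at this
    exact h2 (by linear_combination this)
  have e11 := gram_nat (ψ := ψ) hψ (1 : F) 1
  have enn := gram_nat (ψ := ψ) hψ ν ν
  have e1n := gram_nat (ψ := ψ) hψ (1 : F) ν
  rw [hsel 1 one_ne_zero, hsplit, p1, s1, a1, b1, hDQ,
    hDsum _ 1 (fun χ h => by rw [(hDv χ h).2.1])] at e11
  rw [hsel ν hν0, hsplit, p2, s2, a2, b2, hDQ,
    hDsum _ 1 (fun χ h => by rw [(hDv χ h).2.2])] at enn
  rw [Finset.filter_false_of_mem (p := fun a : Fˣ => ν * (a : F) ^ 2 = 1) (fun a _ h => hν ⟨(a : F)⁻¹, by field_simp; linear_combination h⟩),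
    Finset.card_empty, hsplit, p1, s1, a1, b1, p2, s2, a2, b2, hDQ,
    hDsum _ 1 (fun χ h => by rw [(hDv χ h).2.1, (hDv χ h).2.2])] at e1n
  -- counting the cuspidal part
  have hk : Fintype.card F + 4 ≤ 4 + D.card + Q.card := by
    have h1 := card_classes_odd h2 (F := F)
    rw [← CfsgLib.Char.card_irrCharacter, Nat.card_eq_fintype_card] at h1
    have h3 := hsplit (fun _ => (1 : ℕ))
    rw [hDQ] at h3
    simp only [Finset.sum_const, smul_eq_mul, mul_one, Finset.card_univ] at h3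
    omega
  have hpos : ∀ χ ∈ Q, 1 + mult ψ 1 χ * mult ψ ν χ ≤
      mult ψ 1 χ * mult ψ 1 χ + mult ψ ν χ * mult ψ ν χ := by
    intro χ hχ
    have hd : mult ψ 1 χ + mult ψ ν χ ≠ 0 := by
      intro h0
      have hdeg := apply_one_of_vec hψ hν (χ := χ) (f := 0) (m := 0) (n := 0)
        ⟨hQ0 χ hχ, by omega, by omega⟩
      simp only [add_zero, mul_zero, Nat.cast_zero] at hdeg
      exact CfsgLib.Char.IsIrrCharacter.apply_one_ne_zero χ.2 hdeg
    have h1 : (mult ψ 1 χ + mult ψ ν χ) ≥ 1 := by omega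
    rcases Nat.le_total (mult ψ 1 χ) (mult ψ ν χ) with h | h
    · nlinarith
    · nlinarith
  have hle := Finset.sum_le_sum hpos
  simp only [Finset.sum_add_distrib, Finset.sum_const, smul_eq_mul, mul_one] at hle
  obtain ⟨k, hk'⟩ := hodd
  have heq : ∀ χ ∈ Q, 1 + mult ψ 1 χ * mult ψ ν χ =
      mult ψ 1 χ * mult ψ 1 χ + mult ψ ν χ * mult ψ ν χ := by
    refine (Finset.sum_eq_sum_iff_of_le hpos).1 ?_
    simp only [Finset.sum_add_distrib, Finset.sum_const, smul_eq_mul, mul_one]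
    omega
  have hcase : ∀ χ ∈ Q, Vec ψ ν χ 0 1 1 ∨ Vec ψ ν χ 0 1 0 ∨ Vec ψ ν χ 0 0 1 := by
    intro χ hχ
    have h := heq χ hχ
    have hm : mult ψ 1 χ ≤ 1 := by nlinarith [sq_nonneg ((mult ψ 1 χ : ℤ) - mult ψ ν χ)]
    have hn : mult ψ ν χ ≤ 1 := by nlinarith [sq_nonneg ((mult ψ 1 χ : ℤ) - mult ψ ν χ)]
    have h0 := hQ0 χ hχ
    rcases Nat.le_one_iff_eq_zero_or_eq_one.1 hm with e | e <;>
      rcases Nat.le_one_iff_eq_zero_or_eq_one.1 hn with e' | e'
    · rw [e, e'] at h; simp at h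
    · exact Or.inr (Or.inr ⟨h0, e, e'⟩)
    · exact Or.inr (Or.inl ⟨h0, e, e'⟩)
    · exact Or.inl ⟨h0, e, e'⟩
  set E := Q.filter fun χ => mult ψ 1 χ = 1 ∧ mult ψ ν χ = 1 with hE
  set Q1 := Q.filter fun χ => mult ψ 1 χ = 1 ∧ mult ψ ν χ = 0 with hQ1
  set Q2 := Q.filter fun χ => mult ψ 1 χ = 0 ∧ mult ψ ν χ = 1 with hQ2
  have hQsplit : ∀ {M : Type} [AddCommMonoid M] (g : Cfsg.IrrCharacter SL2 → M),
      ∑ χ ∈ Q, g χ = ∑ χ ∈ E, g χ + ∑ χ ∈ Q1, g χ + ∑ χ ∈ Q2, g χ := by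
    intro M _ g
    rw [hE, hQ1, hQ2, Finset.sum_filter (s := Q), Finset.sum_filter (s := Q),
      Finset.sum_filter (s := Q), ← Finset.sum_add_distrib, ← Finset.sum_add_distrib]
    refine Finset.sum_congr rfl fun χ hχ => ?_
    rcases hcase χ hχ with ⟨-, h1, h1'⟩ | ⟨-, h1, h1'⟩ | ⟨-, h1, h1'⟩ <;> simp [h1, h1']
  have hEv : ∀ χ ∈ E, Vec ψ ν χ 0 1 1 := fun χ h => by
    rw [hE, Finset.mem_filter] at h; exact ⟨hQ0 χ h.1, h.2.1, h.2.2⟩
  have h1v : ∀ χ ∈ Q1, Vec ψ ν χ 0 1 0 := fun χ h => by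
    rw [hQ1, Finset.mem_filter] at h; exact ⟨hQ0 χ h.1, h.2.1, h.2.2⟩
  have h2v : ∀ χ ∈ Q2, Vec ψ ν χ 0 0 1 := fun χ h => by
    rw [hQ2, Finset.mem_filter] at h; exact ⟨hQ0 χ h.1, h.2.1, h.2.2⟩
  have m11 : ∑ χ ∈ Q, mult ψ 1 χ * mult ψ 1 χ = E.card + Q1.card := by
    rw [hQsplit, Finset.sum_congr rfl (s₂ := E) (g := fun _ => 1) (fun χ h => by rw [(hEv χ h).2.1]),
      Finset.sum_congr rfl (s₂ := Q1) (g := fun _ => 1) (fun χ h => by rw [(h1v χ h).2.1]),
      Finset.sum_eq_zero (s := Q2) (fun χ h => by rw [(h2v χ h).2.1, zero_mul])]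
    simp
  have mnn : ∑ χ ∈ Q, mult ψ ν χ * mult ψ ν χ = E.card + Q2.card := by
    rw [hQsplit, Finset.sum_congr rfl (s₂ := E) (g := fun _ => 1) (fun χ h => by rw [(hEv χ h).2.2]),
      Finset.sum_eq_zero (s := Q1) (fun χ h => by rw [(h1v χ h).2.2, zero_mul]),
      Finset.sum_congr rfl (s₂ := Q2) (g := fun _ => 1) (fun χ h => by rw [(h2v χ h).2.2])]
    simp
  have m1n : ∑ χ ∈ Q, mult ψ 1 χ * mult ψ ν χ = E.card := by
    rw [hQsplit, Finset.sum_congr rfl (s₂ := E) (g := fun _ => 1)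
        (fun χ h => by rw [(hEv χ h).2.1, (hEv χ h).2.2]),
      Finset.sum_eq_zero (s := Q1) (fun χ h => by rw [(h1v χ h).2.2, mul_zero]),
      Finset.sum_eq_zero (s := Q2) (fun χ h => by rw [(h2v χ h).2.1, zero_mul])]
    simp
  obtain ⟨C, hC⟩ := Finset.card_eq_one.1 (show Q1.card = 1 by omega)
  obtain ⟨C', hC'⟩ := Finset.card_eq_one.1 (show Q2.card = 1 by omega)
  refine ⟨P, St, A, B, C, C', D, E, hP, hStval, ⟨p0, p1, p2⟩, ⟨s0, s1, s2⟩, ⟨a0, a1, a2⟩,
    ⟨b0, b1, b2⟩, h1v C (by simp [hC]), h2v C' (by simp [hC']), hDv, hEv, by omega, by omega, ?_,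
    fun g => ?_⟩
  · rw [Nat.card_eq_fintype_card]
    have h3 := hsplit (fun _ => (1 : ℕ))
    rw [hDQ, hQsplit, hC, hC'] at h3
    simp only [Finset.sum_const, smul_eq_mul, mul_one, Finset.card_singleton, Finset.card_univ] at h3
    omega
  · rw [hsplit, hDQ, hQsplit, hC, hC', Finset.sum_singleton, Finset.sum_singleton]
    abel

end CfsgLib.SL2Deg
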