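import Cfsg.Prelude.Def_Blocks
import Cfsg.Prelude.Def_DegreeGraph
import Cfsg.Agent.Lib.SL2Deg.Table
import Cfsg.Agent.Lib.SL2Deg.Even
import Cfsg.Agent.Lib.Char.Twist

/-! Character degrees of `SL₂(F)` and `PSL₂(F)`. -/

set_option autoImplicit false

open scoped ComplexConjugate
open Matrix CfsgLib.SL2Trace CfsgLib.SL2Borel

namespace CfsgLib.SL2Deg

variable {F : Type*} [Field F] [Fintype F] [DecidableEq F]

local notation "SL2" => Matrix.SpecialLinearGroup (Fin 2) F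

/-- The possible degrees of irreducible characters. -/
def degList (q : ℕ) : Set ℕ :=
  {d | d = 1 ∨ d = q ∨ d = q + 1 ∨ d = q - 1 ∨ (Odd q ∧ (d = (q + 1) / 2 ∨ d = (q - 1) / 2))}

theorem charDegree_eq {G : Type*} [Group G] {χ : G → ℂ} {d : ℕ} (h : χ 1 = (d : ℂ)) :
    Cfsg.charDegree χ = d := by
  simp [Cfsg.charDegree, h]

theorem exists_primitive : ∃ ψ : AddChar F ℂ, ψ.IsPrimitive :=
  ⟨AddChar.FiniteField.primitiveChar_to_Complex F,
    AddChar.FiniteField.primitiveChar_to_Complex_isPrimitive F⟩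

theorem two_ne_zero_of_odd (hodd : Odd (Fintype.card F)) : (2 : F) ≠ 0 :=
  Ring.two_ne_zero fun h => by
    have : CharP F 2 := ringChar.of_eq h
    have := FiniteField.even_card_of_char_two (F := F) h
    rw [Nat.odd_iff] at hodd
    omega

theorem charP_two_of_even (h : ¬ Odd (Fintype.card F)) : CharP F 2 := by
  have : ringChar F = 2 := by
    by_contra hc
    exact h (Nat.odd_iff.2 (FiniteField.odd_card_of_char_ne_two hc))
  exact ringChar.of_eq this

theorem mem_of_sum_split {ι : Type*} [Fintype ι] {χ : ι} {p : ι → Prop}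
    (l : List ι) (D E : Finset ι) (hl : ∀ x ∈ l, p x) (hD : ∀ x ∈ D, p x) (hE : ∀ x ∈ E, p x)
    (hs : ∀ g : ι → ℂ, ∑ x, g x = (l.map g).sum + ∑ x ∈ D, g x + ∑ x ∈ E, g x) : p χ := by
  classical
  by_contra hc
  have h := hs fun x => if x = χ then 1 else 0
  rw [Finset.sum_ite_eq' Finset.univ χ, if_pos (Finset.mem_univ χ),
    Finset.sum_eq_zero (s := D) (fun x hx => if_neg fun e => hc (by rw [← e]; exact hD x hx)),
    Finset.sum_eq_zero (s := E) (fun x hx => if_neg fun e => hc (by rw [← e]; exact hE x hx)),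
    List.sum_eq_zero] at h
  · simp at h
  · intro y hy
    obtain ⟨x, hx, rfl⟩ := List.mem_map.1 hy
    exact if_neg fun e => hc (by rw [← e]; exact hl x hx)

theorem center_cases {z : SL2} (hz : z ∈ Subgroup.center SL2) : z = 1 ∨ z = -1 := by
  obtain ⟨h1, h2, h3⟩ := mem_center_iff_entries.1 hz
  have hd := det_coe z
  rw [h1, h2, ← h3, zero_mul, sub_zero, ← pow_two, sq_eq_one_iff] at hd
  rcases hd with e | e
  · refine Or.inl (Matrix.SpecialLinearGroup.ext _ _ fun i j => ?_)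
    fin_cases i <;> fin_cases j <;> simp [h1, h2, ← h3, e]
  · refine Or.inr (Matrix.SpecialLinearGroup.ext _ _ fun i j => ?_)
    fin_cases i <;> fin_cases j <;> simp [h1, h2, ← h3, e]

theorem neg_one_mem_center : (-1 : SL2) ∈ Subgroup.center SL2 := by
  rw [mem_center_iff_entries]; simp

/-- All degrees, and the uniqueness of the degree `q` character, which is trivial on the centre. -/
theorem classification (h4 : 4 ≤ Fintype.card F) :
    ∃ St : Cfsg.IrrCharacter SL2, (St : SL2 → ℂ) 1 = (Fintype.card F : ℂ) ∧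
      (∀ z ∈ Subgroup.center SL2, (St : SL2 → ℂ) z = (St : SL2 → ℂ) 1) ∧
      ∀ χ : Cfsg.IrrCharacter SL2, ∃ d ∈ degList (Fintype.card F),
        (χ : SL2 → ℂ) 1 = (d : ℂ) ∧ (d = Fintype.card F → χ = St) := by
  classical
  obtain ⟨ψ, hψ⟩ := exists_primitive (F := F)
  have hval : ∀ St : SL2 → ℂ, (∀ g, St g = R (1 : MulChar F ℂ) g - 1) → ∀ z ∈ Subgroup.center SL2,
      St z = (Fintype.card F : ℂ) := by
    intro St hSt z hz
    obtain ⟨h1, h2, h3⟩ := mem_center_iff_entries.1 hz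
    have h0 : (z : Matrix (Fin 2) (Fin 2) F) 0 0 ≠ 0 := by
      intro e
      have hd := det_coe z
      rw [e, h1, h2] at hd
      simp at hd
    rw [hSt, R_scalar (1 : MulChar F ℂ) h1 h2 h3, MulChar.one_apply (isUnit_iff_ne_zero.2 h0)]
    ring
  have finish : ∀ St : Cfsg.IrrCharacter SL2, (∀ g, (St : SL2 → ℂ) g = R (1 : MulChar F ℂ) g - 1) →
      (∀ χ : Cfsg.IrrCharacter SL2, ∃ d ∈ degList (Fintype.card F),
        (χ : SL2 → ℂ) 1 = (d : ℂ) ∧ (d = Fintype.card F → χ = St)) → _ := fun St hSt h =>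
    (⟨St, hval _ hSt 1 (Subgroup.one_mem _), fun z hz => by
      rw [hval _ hSt z hz, hval _ hSt 1 (Subgroup.one_mem _)], h⟩ : ∃ St : Cfsg.IrrCharacter SL2,
      (St : SL2 → ℂ) 1 = (Fintype.card F : ℂ) ∧
      (∀ z ∈ Subgroup.center SL2, (St : SL2 → ℂ) z = (St : SL2 → ℂ) 1) ∧
      ∀ χ : Cfsg.IrrCharacter SL2, ∃ d ∈ degList (Fintype.card F),
        (χ : SL2 → ℂ) 1 = (d : ℂ) ∧ (d = Fintype.card F → χ = St))
  by_cases hodd : Odd (Fintype.card F)
  · have h2 := two_ne_zero_of_odd hodd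
    have h5 : 5 ≤ Fintype.card F := by
      obtain ⟨k, hk⟩ := hodd; omega
    obtain ⟨ν, hν⟩ := FiniteField.exists_nonsquare (F := F) (fun h => h2 (by
      have : CharP F 2 := ringChar.of_eq h
      exact_mod_cast CharP.cast_eq_zero F 2))
    obtain ⟨P, St, A, B, C, C', D, E, -, hStval, vP, vSt, vA, vB, vC, vC', vD, vE, -, -, -, hs⟩ :=
      odd_table hψ h2 (by omega) hodd hν
    refine finish St hStval fun χ => ?_
    obtain ⟨k, hk⟩ := hodd
    refine mem_of_sum_split (χ := χ) (p := fun χ => ∃ d ∈ degList (Fintype.card F),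
      (χ : SL2 → ℂ) 1 = (d : ℂ) ∧ (d = Fintype.card F → χ = St))
      [P, St, A, B, C, C'] D E ?_ ?_ ?_ (fun g => by rw [hs g]; simp; ring)
    · intro x hx
      simp only [List.mem_cons, List.mem_nil_iff, or_false] at hx
      rcases hx with rfl | rfl | rfl | rfl | rfl | rfl
      · exact ⟨_, Or.inl (by omega), apply_one_of_vec hψ hν vP, fun h => absurd h (by omega)⟩
      · exact ⟨_, Or.inr (Or.inl (by omega)), apply_one_of_vec hψ hν vSt, fun _ => rfl⟩
      · exact ⟨_, Or.inr (Or.inr (Or.inr (Or.inr ⟨⟨k, hk⟩, Or.inl (by omega)⟩))),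
          apply_one_of_vec hψ hν vA, fun h => absurd h (by omega)⟩
      · exact ⟨_, Or.inr (Or.inr (Or.inr (Or.inr ⟨⟨k, hk⟩, Or.inl (by omega)⟩))),
          apply_one_of_vec hψ hν vB, fun h => absurd h (by omega)⟩
      · exact ⟨_, Or.inr (Or.inr (Or.inr (Or.inr ⟨⟨k, hk⟩, Or.inr (by omega)⟩))),
          apply_one_of_vec hψ hν vC, fun h => absurd h (by omega)⟩
      · exact ⟨_, Or.inr (Or.inr (Or.inr (Or.inr ⟨⟨k, hk⟩, Or.inr (by omega)⟩))),
          apply_one_of_vec hψ hν vC', fun h => absurd h (by omega)⟩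
    · intro x hx
      exact ⟨_, Or.inr (Or.inr (Or.inl (by omega))), apply_one_of_vec hψ hν (vD x hx),
        fun h => absurd h (by omega)⟩
    · intro x hx
      exact ⟨_, Or.inr (Or.inr (Or.inr (Or.inl (by omega)))), apply_one_of_vec hψ hν (vE x hx),
        fun h => absurd h (by omega)⟩
  · have := charP_two_of_even hodd
    obtain ⟨P, St, D, E, -, hStval, vP, vSt, vD, vE, -, -, -, hs⟩ := even_table hψ
    refine finish St hStval fun χ => ?_
    refine mem_of_sum_split (χ := χ) (p := fun χ => ∃ d ∈ degList (Fintype.card F),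
      (χ : SL2 → ℂ) 1 = (d : ℂ) ∧ (d = Fintype.card F → χ = St))
      [P, St] D E ?_ ?_ ?_ (fun g => by rw [hs g]; simp)
    · intro x hx
      simp only [List.mem_cons, List.mem_nil_iff, or_false] at hx
      rcases hx with rfl | rfl
      · exact ⟨_, Or.inl (by rw [vP.1, vP.2]; omega), apply_one_even hψ _,
          fun h => absurd h (by rw [vP.1, vP.2]; omega)⟩
      · exact ⟨_, Or.inr (Or.inl (by rw [vSt.1, vSt.2]; omega)), apply_one_even hψ _, fun _ => rfl⟩
    · intro x hx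
      obtain ⟨h0, h1⟩ := vD x hx
      exact ⟨_, Or.inr (Or.inr (Or.inl (by rw [h0, h1]; omega))), apply_one_even hψ _,
        fun h => absurd h (by rw [h0, h1]; omega)⟩
    · intro x hx
      obtain ⟨h0, h1⟩ := vE x hx
      exact ⟨_, Or.inr (Or.inr (Or.inr (Or.inl (by rw [h0, h1]; omega)))), apply_one_even hψ _,
        fun h => absurd h (by rw [h0, h1]; omega)⟩

/-- Characters of degree `q ± 1` trivial on the centre. -/
theorem exists_degree_pm (h4 : 4 ≤ Fintype.card F) (h5 : Fintype.card F ≠ 5) :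
    (∃ χ : Cfsg.IrrCharacter SL2, (χ : SL2 → ℂ) 1 = ((Fintype.card F + 1 : ℕ) : ℂ) ∧
      ∀ z ∈ Subgroup.center SL2, (χ : SL2 → ℂ) z = (χ : SL2 → ℂ) 1) ∧
    ∃ χ : Cfsg.IrrCharacter SL2, (χ : SL2 → ℂ) 1 = ((Fintype.card F - 1 : ℕ) : ℂ) ∧
      ∀ z ∈ Subgroup.center SL2, (χ : SL2 → ℂ) z = (χ : SL2 → ℂ) 1 := by
  classical
  obtain ⟨ψ, hψ⟩ := exists_primitive (F := F)
  by_cases hodd : Odd (Fintype.card F)
  · have h2 := two_ne_zero_of_odd hodd
    have h7 : 7 ≤ Fintype.card F := by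
      obtain ⟨k, hk⟩ := hodd; omega
    obtain ⟨ν, hν⟩ := FiniteField.exists_nonsquare (F := F) (fun h => h2 (by
      have : CharP F 2 := ringChar.of_eq h
      exact_mod_cast CharP.cast_eq_zero F 2))
    obtain ⟨P, St, A, B, C, C', D, E, hP, -, vP, vSt, vA, vB, vC, vC', vD, vE, hD, hE, -, hs⟩ :=
      odd_table hψ h2 (by omega) hodd hν
    let e : Cfsg.IrrCharacter SL2 → ℤ := fun χ =>
      if (χ : SL2 → ℂ) (-1) = (χ : SL2 → ℂ) 1 then 1 else -1
    have he : ∀ (χ : Cfsg.IrrCharacter SL2) g,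
        (χ : SL2 → ℂ) ((-1 : SL2) * g) = ((e χ : ℤ) : ℂ) * (χ : SL2 → ℂ) g := by
      intro χ g
      have h0 := CfsgLib.Char.IsIrrCharacter.apply_one_ne_zero χ.2
      have hm := CfsgLib.CharOver.apply_mul_central χ.2 (neg_one_mem_center (F := F))
      have hsq := hm (-1)
      rw [neg_mul_neg, one_mul] at hsq
      have hg := hm g
      rw [Subgroup.mem_center_iff.1 (neg_one_mem_center (F := F)) g] at hg
      by_cases hc : (χ : SL2 → ℂ) (-1) = (χ : SL2 → ℂ) 1
      · simp only [e, if_pos hc, Int.cast_one, one_mul]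
        rw [hc] at hg
        exact mul_right_cancel₀ h0 hg
      · have hneg : (χ : SL2 → ℂ) (-1) = -(χ : SL2 → ℂ) 1 :=
          (mul_self_eq_mul_self_iff.1 hsq.symm).resolve_left hc
        simp only [e, if_neg hc, Int.cast_neg, Int.cast_one, neg_mul, one_mul]
        rw [hneg] at hg
        simp only [neg_one_mul] at hg
        exact mul_right_cancel₀ h0 (by linear_combination hg)
    have htw : ∀ s t : F, ∑ χ : Cfsg.IrrCharacter SL2,
        ((e χ : ℤ) : ℂ) * ((mult ψ s χ : ℂ) * (mult ψ t χ : ℂ)) = 0 := fun s t => by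
      have h := gram_twisted hψ h2 (fun χ => ((e χ : ℤ) : ℂ)) he s t
      simp only [mult_spec, map_natCast] at h
      exact h
    have hb : ∀ χ, e χ = 1 ∨ e χ = -1 := fun χ => by
      simp only [e]; split_ifs <;> simp
    have hP1 : e P = 1 := by simp [e, hP]
    have h00 := htw 0 0
    have h1n := htw 1 ν
    rw [hs] at h00 h1n
    rw [Finset.sum_congr rfl (s₂ := D) (g := fun χ => ((e χ : ℤ) : ℂ) * 4)
        (fun χ h => by rw [(vD χ h).1]; norm_num),
      Finset.sum_eq_zero (s := E) (fun χ h => by rw [(vE χ h).1]; simp),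
      vP.1, vSt.1, vA.1, vB.1, vC.1, vC'.1, ← Finset.sum_mul, ← Int.cast_sum] at h00
    rw [Finset.sum_congr rfl (s₂ := D) (g := fun χ => ((e χ : ℤ) : ℂ))
        (fun χ h => by rw [(vD χ h).2.1, (vD χ h).2.2]; simp),
      Finset.sum_congr rfl (s₂ := E) (g := fun χ => ((e χ : ℤ) : ℂ))
        (fun χ h => by rw [(vE χ h).2.1, (vE χ h).2.2]; simp),
      vP.2.1, vSt.2.1, vA.2.1, vB.2.1, vC.2.1, vC'.2.1, vP.2.2, vSt.2.2, vA.2.2, vB.2.2, vC.2.2,
      vC'.2.2, ← Int.cast_sum, ← Int.cast_sum] at h1n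
    simp only [Nat.cast_zero, Nat.cast_one, mul_zero, mul_one, add_zero, zero_add] at h00 h1n
    have h00' : e P + e St + e A + e B + (∑ χ ∈ D, e χ) * 4 = 0 := by exact_mod_cast h00
    have h1n' : e St + ∑ χ ∈ D, e χ + ∑ χ ∈ E, e χ = 0 := by exact_mod_cast h1n
    have key : ∀ S : Finset (Cfsg.IrrCharacter SL2), (∀ χ ∈ S, e χ ≠ 1) →
        ∑ χ ∈ S, e χ = -(S.card : ℤ) := fun S h => by
      rw [Finset.sum_congr rfl (g := fun _ => (-1 : ℤ)) (fun χ hχ => (hb χ).resolve_left (h χ hχ))]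
      simp
    have triv : ∀ χ : Cfsg.IrrCharacter SL2, e χ = 1 →
        ∀ z ∈ Subgroup.center SL2, (χ : SL2 → ℂ) z = (χ : SL2 → ℂ) 1 := by
      intro χ h z hz
      rcases center_cases hz with rfl | rfl
      · rfl
      · have := he χ 1
        rw [mul_one, h, Int.cast_one, one_mul] at this
        exact this
    have b1 := hb St
    have b2 := hb A
    have b3 := hb B
    obtain ⟨k, hk⟩ := hodd
    constructor
    · by_cases hc : ∃ χ ∈ D, e χ = 1
      · obtain ⟨χ, hχ, h⟩ := hc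
        exact ⟨χ, (apply_one_of_vec hψ hν (vD χ hχ)).trans (by congr 1; omega), triv χ h⟩
      · push Not at hc
        rw [key D hc, hP1] at h00'
        omega
    · by_cases hc : ∃ χ ∈ E, e χ = 1
      · obtain ⟨χ, hχ, h⟩ := hc
        exact ⟨χ, (apply_one_of_vec hψ hν (vE χ hχ)).trans (by congr 1; omega), triv χ h⟩
      · push Not at hc
        rw [key E hc] at h1n'
        omega
  · have := charP_two_of_even hodd
    obtain ⟨P, St, D, E, -, -, -, -, vD, vE, hD, hE, -, -⟩ := even_table hψ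
    have triv : ∀ χ : Cfsg.IrrCharacter SL2,
        ∀ z ∈ Subgroup.center SL2, (χ : SL2 → ℂ) z = (χ : SL2 → ℂ) 1 := by
      intro χ z hz
      rcases center_cases hz with rfl | rfl
      · rfl
      · refine congrArg _ ((Matrix.SpecialLinearGroup.ext (-1 : SL2) 1 fun i j => ?_))
        simp [CharTwo.neg_eq]
    constructor
    · obtain ⟨χ, hχ⟩ := Finset.card_pos.1 (show 0 < D.card by omega)
      refine ⟨χ, (apply_one_even hψ χ).trans ?_, triv χ⟩
      rw [(vD χ hχ).1, (vD χ hχ).2]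
      congr 1
      omega
    · obtain ⟨χ, hχ⟩ := Finset.card_pos.1 (show 0 < E.card by omega)
      refine ⟨χ, (apply_one_even hψ χ).trans ?_, triv χ⟩
      rw [(vE χ hχ).1, (vE χ hχ).2]
      congr 1
      omega

/-- Irreducible characters of `PSL₂(F)` inflate to `SL₂(F)`. -/
theorem exists_inflate (χ : Cfsg.IrrCharacter (Matrix.ProjectiveSpecialLinearGroup (Fin 2) F)) :
    ∃ η : Cfsg.IrrCharacter SL2, ∀ g : SL2,
      (η : SL2 → ℂ) g = (χ : Matrix.ProjectiveSpecialLinearGroup (Fin 2) F → ℂ) (QuotientGroup.mk g) :=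
  ⟨⟨_, CfsgLib.CharTwist.isIrrCharacter_comp χ.2 (QuotientGroup.mk' (Subgroup.center SL2))
    (QuotientGroup.mk'_surjective _)⟩, fun _ => rfl⟩

theorem mem_charDegrees_psl {χ : Cfsg.IrrCharacter SL2} {d : ℕ} (hd : (χ : SL2 → ℂ) 1 = (d : ℂ))
    (hz : ∀ z ∈ Subgroup.center SL2, (χ : SL2 → ℂ) z = (χ : SL2 → ℂ) 1) :
    d ∈ Cfsg.charDegrees (Matrix.ProjectiveSpecialLinearGroup (Fin 2) F) ∧
      d ∈ Cfsg.charDegrees SL2 := by
  obtain ⟨η, hη, he⟩ := CfsgLib.CharTwist.exists_irr_quotient χ.2 (Subgroup.center SL2) hz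
  refine ⟨⟨⟨η, hη⟩, charDegree_eq ?_⟩, ⟨χ, charDegree_eq hd⟩⟩
  rw [he] at hd
  exact hd

/-- The degree sets, for either group. -/
theorem charDegrees_spec (h4 : 4 ≤ Fintype.card F) {S : Type*} [Group S]
    (hS : Nonempty (S ≃* Matrix.ProjectiveSpecialLinearGroup (Fin 2) F) ∨ Nonempty (S ≃* SL2)) :
    Cfsg.charDegrees S ⊆ degList (Fintype.card F) ∧ Fintype.card F ∈ Cfsg.charDegrees S ∧
      (Fintype.card F ≠ 5 →
        Fintype.card F + 1 ∈ Cfsg.charDegrees S ∧ Fintype.card F - 1 ∈ Cfsg.charDegrees S) := by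
  classical
  have transfer : ∀ {T : Type _} [Group T] (_ : S ≃* T), Cfsg.charDegrees S = Cfsg.charDegrees T := by
    intro T _ e
    ext d
    constructor
    · rintro ⟨χ, rfl⟩
      exact ⟨⟨_, CfsgLib.CharTwist.isIrrCharacter_comp_equiv χ.2 e.symm⟩, by
        simp [Cfsg.charDegree]⟩
    · rintro ⟨χ, rfl⟩
      exact ⟨⟨_, CfsgLib.CharTwist.isIrrCharacter_comp_equiv χ.2 e⟩, by simp [Cfsg.charDegree]⟩
  obtain ⟨St, hSt1, hStz, hall⟩ := classification (F := F) h4
  have hsub : Cfsg.charDegrees SL2 ⊆ degList (Fintype.card F) := by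
    rintro d ⟨χ, rfl⟩
    obtain ⟨d, hd, h1, -⟩ := hall χ
    rwa [charDegree_eq h1]
  have hsub' : Cfsg.charDegrees (Matrix.ProjectiveSpecialLinearGroup (Fin 2) F) ⊆
      degList (Fintype.card F) := by
    rintro d ⟨χ, rfl⟩
    obtain ⟨η, hη⟩ := exists_inflate χ
    obtain ⟨d, hd, h1, -⟩ := hall η
    rw [hη, QuotientGroup.mk_one] at h1
    rwa [charDegree_eq h1]
  have hq := mem_charDegrees_psl hSt1 hStz
  rcases hS with ⟨⟨e⟩⟩ | ⟨⟨e⟩⟩ <;> rw [transfer e]
  · refine ⟨hsub', hq.1, fun h5 => ?_⟩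
    obtain ⟨⟨χ, h1, hz⟩, ⟨χ', h1', hz'⟩⟩ := exists_degree_pm h4 h5
    exact ⟨(mem_charDegrees_psl h1 hz).1, (mem_charDegrees_psl h1' hz').1⟩
  · refine ⟨hsub, hq.2, fun h5 => ?_⟩
    obtain ⟨⟨χ, h1, hz⟩, ⟨χ', h1', hz'⟩⟩ := exists_degree_pm h4 h5
    exact ⟨(mem_charDegrees_psl h1 hz).2, (mem_charDegrees_psl h1' hz').2⟩

end CfsgLib.SL2Deg
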