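import Cfsg.Agent.Lib.SL2Deg.Degrees

/-! Numbers of irreducible characters of `SL₂(F)` of each degree. -/

set_option autoImplicit false

open scoped ComplexConjugate
open Matrix CfsgLib.SL2Trace CfsgLib.SL2Borel

namespace CfsgLib.SL2Deg

variable {F : Type*} [Field F] [Fintype F] [DecidableEq F]

local notation "SL2" => Matrix.SpecialLinearGroup (Fin 2) F

theorem card_degree_eq (c : ℕ) :
    (Nat.card {χ : Cfsg.IrrCharacter SL2 // (χ : SL2 → ℂ) 1 = (c : ℂ)} : ℂ) =
      ∑ χ : Cfsg.IrrCharacter SL2, if (χ : SL2 → ℂ) 1 = (c : ℂ) then (1 : ℂ) else 0 := by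
  classical
  rw [Nat.card_eq_fintype_card, Fintype.card_subtype, Finset.natCast_card_filter]

theorem small_degree (χ : Cfsg.IrrCharacter SL2) {B : ℕ}
    (hB : Nat.card SL2 < (B + 1) ^ 2) :
    ∃ d : ℕ, 1 ≤ d ∧ d ≤ B ∧ (χ : SL2 → ℂ) 1 = (d : ℂ) := by
  have h := CfsgLib.Char.sum_degree_sq (G := SL2)
  have hle := Finset.single_le_sum (f := fun χ : Cfsg.IrrCharacter SL2 =>
    CfsgLib.Char.degree (χ : SL2 → ℂ) ^ 2) (fun _ _ => Nat.zero_le _) (Finset.mem_univ χ)
  refine ⟨_, CfsgLib.Char.IsIrrCharacter.degree_pos χ.2, ?_,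
    (CfsgLib.Char.IsCharacter.degree_cast (CfsgLib.Char.IsIrrCharacter.isCharacter χ.2)).symm⟩
  by_contra hc
  have : (B + 1) ^ 2 ≤ CfsgLib.Char.degree (χ : SL2 → ℂ) ^ 2 :=
    Nat.pow_le_pow_left (by omega) 2
  simp only [h] at hle
  omega

/-- The counts, `q` odd. -/
theorem odd_counts (hodd : Odd (Fintype.card F)) (h5 : 5 ≤ Fintype.card F) :
    (∀ c : ℕ, Nat.card {χ : Cfsg.IrrCharacter SL2 // (χ : SL2 → ℂ) 1 = (c : ℂ)} =
      (if c = 1 then 1 else 0) + (if c = Fintype.card F then 1 else 0) +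
      (if c = (Fintype.card F + 1) / 2 then 2 else 0) + (if c = (Fintype.card F - 1) / 2 then 2 else 0) +
      (if c = Fintype.card F + 1 then (Fintype.card F - 3) / 2 else 0) +
      (if c = Fintype.card F - 1 then (Fintype.card F - 1) / 2 else 0)) ∧
    Nat.card (Cfsg.IrrCharacter SL2) = Fintype.card F + 4 := by
  classical
  obtain ⟨ψ, hψ⟩ := exists_primitive (F := F)
  have h2 := two_ne_zero_of_odd hodd
  obtain ⟨ν, hν⟩ := FiniteField.exists_nonsquare (F := F) (fun h => h2 (by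
    have : CharP F 2 := ringChar.of_eq h
    exact_mod_cast CharP.cast_eq_zero F 2))
  obtain ⟨P, St, A, B, C, C', D, E, -, -, vP, vSt, vA, vB, vC, vC', vD, vE, hD, hE, hk, hs⟩ :=
    odd_table hψ h2 (by omega) hodd hν
  refine ⟨fun c => ?_, hk⟩
  obtain ⟨k, hk⟩ := hodd
  have hv : ∀ {χ : Cfsg.IrrCharacter SL2} {f m n : ℕ}, Vec ψ ν χ f m n → ∀ d : ℕ,
      f + (Fintype.card F - 1) / 2 * (m + n) = d →
      (if (χ : SL2 → ℂ) 1 = (c : ℂ) then (1 : ℂ) else 0) = ((if c = d then 1 else 0 : ℕ) : ℂ) := by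
    intro χ f m n h d hd
    rw [apply_one_of_vec hψ hν h, hd]
    simp only [Nat.cast_inj, Nat.cast_ite, Nat.cast_one, Nat.cast_zero, eq_comm]
  apply Nat.cast_injective (R := ℂ)
  rw [card_degree_eq, hs,
    hv vP 1 (by omega), hv vSt (Fintype.card F) (by omega), hv vA ((Fintype.card F + 1) / 2) (by omega),
    hv vB ((Fintype.card F + 1) / 2) (by omega), hv vC ((Fintype.card F - 1) / 2) (by omega),
    hv vC' ((Fintype.card F - 1) / 2) (by omega),
    Finset.sum_congr rfl (fun χ h => hv (vD χ h) (Fintype.card F + 1) (by omega)),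
    Finset.sum_congr rfl (fun χ h => hv (vE χ h) (Fintype.card F - 1) (by omega)),
    Finset.sum_const, Finset.sum_const, show (Fintype.card F - 3) / 2 = D.card by omega,
    show (Fintype.card F - 1) / 2 = E.card by omega]
  simp only [Nat.cast_ite, Nat.cast_one, Nat.cast_zero, Nat.cast_add, nsmul_eq_mul, mul_ite,
    mul_one, mul_zero, Nat.cast_ofNat]
  split_ifs <;> ring

/-- Seven classes over three elements. -/
theorem card_irr_three (h3 : Fintype.card F = 3) : Nat.card (Cfsg.IrrCharacter SL2) = 7 ∧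
    Nat.card (Cfsg.IrrCharacter SL2) = Fintype.card F + 4 := by
  classical
  have hodd : Odd (Fintype.card F) := ⟨1, h3⟩
  obtain ⟨ψ, hψ⟩ := exists_primitive (F := F)
  have h2 := two_ne_zero_of_odd hodd
  obtain ⟨ν, hν⟩ := FiniteField.exists_nonsquare (F := F) (fun h => h2 (by
    have : CharP F 2 := ringChar.of_eq h
    exact_mod_cast CharP.cast_eq_zero F 2))
  obtain ⟨P, St, A, B, C, C', D, E, -, -, -, -, -, -, -, -, -, -, -, -, hk, -⟩ :=
    odd_table hψ h2 h3.ge hodd hν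
  exact ⟨by omega, hk⟩

/-- The counts, `q` even. -/
theorem even_counts [CharP F 2] :
    (∀ c : ℕ, Nat.card {χ : Cfsg.IrrCharacter SL2 // (χ : SL2 → ℂ) 1 = (c : ℂ)} =
      (if c = 1 then 1 else 0) + (if c = Fintype.card F then 1 else 0) +
      (if c = Fintype.card F + 1 then (Fintype.card F - 2) / 2 else 0) +
      (if c = Fintype.card F - 1 then Fintype.card F / 2 else 0)) ∧
    Nat.card (Cfsg.IrrCharacter SL2) = Fintype.card F + 1 := by
  classical
  obtain ⟨ψ, hψ⟩ := exists_primitive (F := F)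
  obtain ⟨P, St, D, E, -, -, vP, vSt, vD, vE, hD, hE, hk, hs⟩ := even_table hψ
  refine ⟨fun c => ?_, hk⟩
  have hv : ∀ {χ : Cfsg.IrrCharacter SL2} {f m : ℕ}, mult ψ 0 χ = f ∧ mult ψ 1 χ = m → ∀ d : ℕ,
      f + (Fintype.card F - 1) * m = d →
      (if (χ : SL2 → ℂ) 1 = (c : ℂ) then (1 : ℂ) else 0) = ((if c = d then 1 else 0 : ℕ) : ℂ) := by
    intro χ f m h d hd
    rw [apply_one_even hψ, h.1, h.2, hd]
    simp only [Nat.cast_inj, Nat.cast_ite, Nat.cast_one, Nat.cast_zero, eq_comm]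
  apply Nat.cast_injective (R := ℂ)
  rw [card_degree_eq, hs,
    hv vP 1 (by omega), hv vSt (Fintype.card F) (by omega),
    Finset.sum_congr rfl (fun χ h => hv (vD χ h) (Fintype.card F + 1) (by omega)),
    Finset.sum_congr rfl (fun χ h => hv (vE χ h) (Fintype.card F - 1) (by omega)),
    Finset.sum_const, Finset.sum_const, show (Fintype.card F - 2) / 2 = D.card by omega,
    show Fintype.card F / 2 = E.card by omega]
  simp only [Nat.cast_ite, Nat.cast_one, Nat.cast_zero, Nat.cast_add, nsmul_eq_mul, mul_ite,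
    mul_one, mul_zero]

end CfsgLib.SL2Deg
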