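import Cfsg.Agent.Lib.SL2Deg.Gram
import Cfsg.Agent.Lib.Linear.Simple
import Mathlib.NumberTheory.MulChar.Duality
import Mathlib.NumberTheory.LegendreSymbol.QuadraticChar.Basic

/-! Constituents of the principal series of `SL₂(F)`. -/

set_option autoImplicit false

open scoped ComplexConjugate
open Matrix CfsgLib.SL2Trace CfsgLib.SL2Borel

namespace CfsgLib.SL2Deg

/-- A character of norm two has exactly two constituents. -/
theorem two_constituents {G : Type*} [Group G] [Fintype G] {R : G → ℂ}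
    (h : Cfsg.IsCharacter G R) (h2 : Cfsg.classInner R R = 2) :
    ∃ A B : Cfsg.IrrCharacter G, A ≠ B ∧ R = (A : G → ℂ) + (B : G → ℂ) ∧
      ∀ χ : Cfsg.IrrCharacter G, Cfsg.classInner R (χ : G → ℂ) ≠ 0 → χ = A ∨ χ = B := by
  classical
  obtain ⟨m, rfl⟩ := CfsgLib.Char.IsCharacter.exists_nat_combination h
  have hs : ∑ φ, m φ * m φ = 2 := by
    have h3 := CfsgLib.Char.classInner_sum_smul_sum_smul (G := G) (fun φ => (m φ : ℂ))
      (fun φ => (m φ : ℂ))
    rw [h2] at h3
    simp only [map_natCast] at h3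
    exact_mod_cast h3.symm
  have hle : ∀ φ, m φ ≤ 1 := fun φ => by
    have h' := Finset.single_le_sum (f := fun φ => m φ * m φ) (fun _ _ => Nat.zero_le _)
      (Finset.mem_univ φ)
    simp only [hs] at h'
    by_contra hc
    have : 2 * 2 ≤ m φ * m φ := Nat.mul_le_mul (by omega) (by omega)
    omega
  have hcard : (Finset.univ.filter fun φ => m φ = 1).card = 2 := by
    rw [← hs, Finset.card_filter]
    exact Finset.sum_congr rfl fun φ _ => by
      rcases Nat.le_one_iff_eq_zero_or_eq_one.1 (hle φ) with e | e <;> simp [e]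
  obtain ⟨A, B, hAB, hset⟩ := Finset.card_eq_two.1 hcard
  have hm : ∀ φ, m φ = if φ = A ∨ φ = B then 1 else 0 := fun φ => by
    have h' : m φ = 1 ↔ φ = A ∨ φ = B := by simpa using Finset.ext_iff.1 hset φ
    have := hle φ
    split_ifs with e
    · exact h'.2 e
    · by_contra hne
      exact e (h'.1 (by omega))
  refine ⟨A, B, hAB, ?_, fun χ hχ => ?_⟩
  · rw [Finset.sum_eq_add A B hAB (fun c _ hc => by simp [hm c, hc.1, hc.2]) (by simp) (by simp)]
    simp [hm A, hm B]
  · rw [CfsgLib.Char.classInner_sum_smul_irr (fun φ => (m φ : ℂ)) χ] at hχ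
    by_contra hc
    exact hχ (by simp [hm χ, hc])

variable {F : Type*} [Field F] [Fintype F] [DecidableEq F]

local notation "SL2" => Matrix.SpecialLinearGroup (Fin 2) F

theorem exists_nat_classInner_R (α : MulChar F ℂ) :
    Cfsg.IsCharacter SL2 (R α) := by
  let f : borel F →* ℂ :=
    { toFun := fun b => α (((b : SL2) : Matrix (Fin 2) (Fin 2) F) 0 0)
      map_one' := by simp
      map_mul' := fun b c => by
        rw [← map_mul]
        congr 1
        rw [Subgroup.coe_mul, Matrix.SpecialLinearGroup.coe_mul, Matrix.mul_apply,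
          Fin.sum_univ_two, mem_borel_iff.1 c.2, mul_zero, add_zero] }
  exact CfsgLib.Char.IsCharacter.indFun (borel F)
    (CfsgLib.Char.IsIrrCharacter.isCharacter (CfsgLib.Char.isIrrCharacter_linear f.toHomUnits))

theorem classInner_R_left (α : MulChar F ℂ) {χ : SL2 → ℂ} (hχ : Cfsg.IsClassFunction SL2 χ) :
    Cfsg.classInner (R α) χ =
      (Nat.card (borel F) : ℂ)⁻¹ * ∑ a : Fˣ, α (a : F) * ∑ v : F, conj (χ (bMk a v : SL2)) := by
  classical
  rw [R, CfsgLib.Char.classInner_indFun _ _ _ hχ]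
  unfold Cfsg.classInner
  rw [← (borelEquiv (F := F)).symm.sum_comp, Fintype.sum_prod_type]
  simp only [Finset.mul_sum]
  rfl

noncomputable local instance fintypeMulChar : Fintype (MulChar F ℂ) := Fintype.ofFinite _

theorem sum_mulChar (a : Fˣ) :
    ∑ α : MulChar F ℂ, α (a : F) = if a = 1 then ((Fintype.card F - 1 : ℕ) : ℂ) else 0 := by
  classical
  split_ifs with h
  · subst h
    simp only [Units.val_one, map_one, Finset.sum_const, Finset.card_univ, nsmul_eq_mul, mul_one]
    rw [← Nat.card_eq_fintype_card, MulChar.card_eq_card_units_of_hasEnoughRootsOfUnity,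
      Nat.card_eq_fintype_card, Fintype.card_units]
  · obtain ⟨β, hβ⟩ := MulChar.exists_apply_ne_one_of_hasEnoughRootsOfUnity F ℂ
      (a := (a : F)) (fun e => h (Units.ext e))
    refine eq_zero_of_mul_eq_self_left hβ ?_
    rw [Finset.mul_sum]
    exact Fintype.sum_bijective _ (Group.mulLeft_bijective β) _ _ fun α => by
      simp [MulChar.mul_apply]

variable (ψ : AddChar F ℂ)

theorem coef_zero (χ : SL2 → ℂ) :
    coef ψ 0 χ = (Fintype.card F : ℂ)⁻¹ * ∑ b : F, χ (u b) := by
  simp [coef]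

theorem sum_classInner_R {χ : SL2 → ℂ} (hχ : Cfsg.IsClassFunction SL2 χ) :
    ∑ α : MulChar F ℂ, Cfsg.classInner (R α) χ = conj (coef ψ 0 χ) := by
  classical
  simp only [classInner_R_left _ hχ]
  rw [← Finset.mul_sum, Finset.sum_comm]
  simp only [← Finset.sum_mul, sum_mulChar]
  simp only [ite_mul, zero_mul, Finset.sum_ite_eq', Finset.mem_univ, if_true]
  rw [coef_zero, map_mul, map_inv₀, map_natCast, map_sum, card_borel, Nat.cast_mul]
  have h1 : ((Fintype.card F - 1 : ℕ) : ℂ) ≠ 0 := Nat.cast_ne_zero.2 (by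
    have := Fintype.one_lt_card (α := F); omega)
  have h2 : (Fintype.card F : ℂ) ≠ 0 := Nat.cast_ne_zero.2 Fintype.card_ne_zero
  field_simp
  rfl

theorem R_u (α : MulChar F ℂ) (b : F) :
    R α (u b) = if b = 0 then (Fintype.card F : ℂ) + 1 else 1 := by
  split_ifs with hb
  · subst hb
    rw [R_scalar α (by simp [coe_u]) (by simp [coe_u]) (by simp [coe_u])]
    simp [coe_u]
  · rw [R_upper α (by simp [coe_u]) (by simp [coe_u]) (by simpa [coe_u] using hb)]
    simp [coe_u]

theorem coef_R (hψ : ψ.IsPrimitive) (α : MulChar F ℂ) (t : F) :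
    coef ψ t (R α) = 1 + (if t = 0 then 1 else 0) := by
  have h2 : (Fintype.card F : ℂ) ≠ 0 := Nat.cast_ne_zero.2 Fintype.card_ne_zero
  have hs : ∑ b : F, conj (ψ (t * b)) = if t = 0 then (Fintype.card F : ℂ) else 0 := by
    have := congrArg (starRingEnd ℂ) (AddChar.sum_mulShift t hψ)
    simp only [mul_comm _ t, map_sum] at this
    rw [this]
    split_ifs <;> simp
  unfold coef
  have hv : ∀ b : F, R α (u b) * conj (ψ (t * b)) =
      conj (ψ (t * b)) + (if b = 0 then (Fintype.card F : ℂ) else 0) := by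
    intro b
    rw [R_u]
    split_ifs with hb
    · subst hb
      simp
      ring
    · simp
  simp only [hv, Finset.sum_add_distrib, hs, Finset.sum_ite_eq', Finset.mem_univ, if_true]
  split_ifs <;> field_simp <;> ring

theorem coef_add (t : F) (a b : SL2 → ℂ) : coef ψ t (a + b) = coef ψ t a + coef ψ t b := by
  simp [coef, add_mul, Finset.sum_add_distrib, mul_add]

theorem coef_one (hψ : ψ.IsPrimitive) (t : F) :
    coef ψ t (fun _ : SL2 => (1 : ℂ)) = if t = 0 then 1 else 0 := by
  have h2 : (Fintype.card F : ℂ) ≠ 0 := Nat.cast_ne_zero.2 Fintype.card_ne_zero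
  unfold coef
  have := congrArg (starRingEnd ℂ) (AddChar.sum_mulShift t hψ)
  simp only [mul_comm _ t, map_sum] at this
  simp only [one_mul, this]
  split_ifs <;> simp [h2]

theorem R_one_one_inner : Cfsg.classInner (R (1 : MulChar F ℂ)) (fun _ : SL2 => (1 : ℂ)) = 1 := by
  rw [classInner_R_left _ (fun _ _ => rfl)]
  have h2 : (Fintype.card F : ℂ) ≠ 0 := Nat.cast_ne_zero.2 Fintype.card_ne_zero
  have h1 : ((Fintype.card F - 1 : ℕ) : ℂ) ≠ 0 := Nat.cast_ne_zero.2 (by
    have := Fintype.one_lt_card (α := F); omega)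
  simp only [MulChar.one_apply_coe, map_one, Finset.sum_const, Finset.card_univ, nsmul_eq_mul,
    mul_one, Fintype.card_units, card_borel, Nat.cast_mul, one_mul]
  field_simp

theorem R_ne_inner_one {α : MulChar F ℂ} (hα : α ≠ 1) :
    Cfsg.classInner (R α) (fun _ : SL2 => (1 : ℂ)) = 0 := by
  rw [classInner_R_left _ (fun _ _ => rfl)]
  have hu : ∑ a : Fˣ, α (a : F) = 0 := by
    rw [show ∑ a : Fˣ, α (a : F) = ∑ x ∈ Finset.univ.erase (0 : F), α x from
      Finset.sum_bij (fun a _ => (a : F)) (fun a _ => by simp) (fun a _ b _ h => Units.ext h)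
        (fun x hx => ⟨Units.mk0 x (Finset.ne_of_mem_erase hx), by simp, rfl⟩) (fun a _ => rfl),
      Finset.sum_erase _ (MulChar.map_zero α), MulChar.sum_eq_zero_of_ne_one hα]
  simp only [map_one, Finset.sum_const, ← Finset.sum_mul, hu, zero_mul, mul_zero]

/-- Linear characters of a perfect `SL₂` are trivial. -/
theorem eq_one_of_degree_one (h4 : 4 ≤ Fintype.card F) {χ : SL2 → ℂ}
    (hχ : Cfsg.IsIrrCharacter SL2 χ) (h1 : χ 1 = 1) : χ = fun _ => 1 := by
  obtain ⟨f, rfl⟩ := CfsgLib.Char.isIrrCharacter_degree_one_iff.1 ⟨hχ, h1⟩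
  obtain ⟨a, ha0, ha⟩ : ∃ a : F, a ≠ 0 ∧ a ^ 2 ≠ 1 := by
    by_contra hc
    push Not at hc
    have hs : (Finset.univ : Finset F) ⊆ {0, 1, -1} := fun a _ => by
      by_cases h0 : a = 0
      · simp [h0]
      · rcases sq_eq_one_iff.1 (hc a h0) with e | e <;> simp [e]
    have := Finset.card_le_card hs
    rw [Finset.card_univ] at this
    have := this.trans Finset.card_le_three
    omega
  have hker : commutator SL2 ≤ f.ker := Abelianization.commutator_subset_ker f
  rw [CfsgLib.Linear.commutator_SL_eq_top (Or.inr ⟨a, ha0, ha⟩)] at hker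
  funext g
  rw [show f g = 1 from hker (Subgroup.mem_top g)]
  rfl

end CfsgLib.SL2Deg
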