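import Cfsg.Prelude.Def_Characters
import Cfsg.Agent.Lib.SL2Borel.Basic
import Cfsg.Agent.Lib.Char.Complete
import Cfsg.Agent.Lib.Char.Linear
import Cfsg.Agent.Lib.Char.Virtual
import Cfsg.Agent.Lib.Char.CentralOver
import Mathlib.NumberTheory.LegendreSymbol.Complex
import Mathlib.Analysis.Fourier.FiniteAbelian.Orthogonality

/-! Restrictions of irreducible characters of `SL₂(F)` to the root group. -/

set_option autoImplicit false

open scoped ComplexConjugate
open Matrix CfsgLib.SL2Trace CfsgLib.SL2Borel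

namespace CfsgLib.SL2Deg

variable {F : Type*} [Field F]

local notation "SL2" => Matrix.SpecialLinearGroup (Fin 2) F

/-- Upper transvection. -/
def u (b : F) : SL2 := (bMk (1 : Fˣ) b : Matrix.SpecialLinearGroup (Fin 2) F)

theorem coe_u (b : F) : (u b : Matrix (Fin 2) (Fin 2) F) = !![1, b; 0, 1] := by
  simp [u, bMk_coe]

theorem u_add (b c : F) : u (b + c) = u b * u c := by
  apply Subtype.ext
  rw [Matrix.SpecialLinearGroup.coe_mul, coe_u, coe_u, coe_u]
  ext i j
  fin_cases i <;> fin_cases j <;> simp [Matrix.mul_apply, Fin.sum_univ_two, add_comm]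

theorem u_zero : u (0 : F) = 1 := by
  apply Subtype.ext
  rw [coe_u]
  ext i j
  fin_cases i <;> fin_cases j <;> simp

/-- The root group as a homomorphism. -/
def uHom : Multiplicative F →* SL2 where
  toFun b := u b.toAdd
  map_one' := u_zero
  map_mul' b c := u_add _ _

theorem mul_u_eq_iff (x : SL2) (b d : F) :
    x * u b = u d * x ↔
      (x : Matrix (Fin 2) (Fin 2) F) 1 0 * d = 0 ∧ (x : Matrix (Fin 2) (Fin 2) F) 1 0 * b = 0 ∧
      (x : Matrix (Fin 2) (Fin 2) F) 0 0 * b = d * (x : Matrix (Fin 2) (Fin 2) F) 1 1 := by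
  constructor
  · intro h
    have h' : (x : Matrix (Fin 2) (Fin 2) F) * !![1, b; 0, 1] =
        !![1, d; 0, 1] * (x : Matrix (Fin 2) (Fin 2) F) := by
      rw [← coe_u, ← coe_u, ← Matrix.SpecialLinearGroup.coe_mul, ← Matrix.SpecialLinearGroup.coe_mul, h]
    have e00 := congrFun (congrFun h' 0) 0
    have e01 := congrFun (congrFun h' 0) 1
    have e11 := congrFun (congrFun h' 1) 1
    simp [Matrix.mul_apply, Fin.sum_univ_two, -mul_eq_zero] at e00 e01 e11
    exact ⟨by linear_combination e00, by linear_combination e11, by linear_combination e01⟩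
  · rintro ⟨h1, h2, h3⟩
    apply Matrix.SpecialLinearGroup.ext
    intro i j
    rw [Matrix.SpecialLinearGroup.coe_mul, Matrix.SpecialLinearGroup.coe_mul, coe_u, coe_u]
    fin_cases i <;> fin_cases j <;> simp [Matrix.mul_apply, Fin.sum_univ_two, -mul_eq_zero]
    · linear_combination h1
    · linear_combination h3
    · linear_combination h2

theorem u_conj (a : Fˣ) (b : F) :
    (bMk a 0 : SL2) * u b * (bMk a 0 : SL2)⁻¹ = u ((a : F) ^ 2 * b) := by
  rw [mul_inv_eq_iff_eq_mul, mul_u_eq_iff]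
  simp [bMk_coe]
  field_simp

variable [Fintype F] [DecidableEq F]

theorem sum_conj_u (φ : F → ℂ) (b : F) :
    ∑ d : F, φ d * (Nat.card {x : SL2 // x * u b = u d * x} : ℂ) =
      if b = 0 then φ 0 * (Nat.card SL2 : ℂ)
      else (Fintype.card F : ℂ) * ∑ a : Fˣ, φ ((a : F) ^ 2 * b) := by
  classical
  split_ifs with hb
  · subst hb
    rw [Finset.sum_eq_single (0 : F)]
    · congr 2
      exact Nat.card_congr (Equiv.subtypeUnivEquiv fun x => by simp [u_zero])
    · intro d _ hd
      have : IsEmpty {x : SL2 // x * u (0 : F) = u d * x} := ⟨fun x => hd (by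
        obtain ⟨x, hx⟩ := x
        rw [u_zero, mul_one] at hx
        have h' : u d = 1 := mul_eq_right.1 hx.symm
        have := congrFun (congrFun (congrArg Subtype.val h') 0) 1
        rw [coe_u] at this
        simpa using this)⟩
      simp
    · simp
  · have key : ∀ d, (Nat.card {x : SL2 // x * u b = u d * x} : ℂ) =
        ∑ a : Fˣ, ∑ _v : F, if d = (a : F) ^ 2 * b then 1 else 0 := by
      intro d
      have e : {x : SL2 // x * u b = u d * x} ≃ {p : Fˣ × F // d = (p.1 : F) ^ 2 * b} :=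
        { toFun := fun x =>
            have h10 : x.1 ∈ borel F := mem_borel_iff.2 (by
              rcases mul_eq_zero.1 ((mul_u_eq_iff x.1 b d).1 x.2).2.1 with h | h
              · exact h
              · exact absurd h hb)
            ⟨borelEquiv ⟨x.1, h10⟩, by
              have h := ((mul_u_eq_iff x.1 b d).1 x.2).2.2
              have hd := det_coe x.1
              rw [mem_borel_iff.1 h10] at hd
              show d = (x.1 : Matrix (Fin 2) (Fin 2) F) 0 0 ^ 2 * b
              linear_combination (-(x.1 : Matrix (Fin 2) (Fin 2) F) 0 0) * h - d * hd⟩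
          invFun := fun p => ⟨(bMk p.1.1 p.1.2 : SL2), by
            obtain ⟨⟨a, v⟩, hp⟩ := p
            subst hp
            rw [mul_u_eq_iff]
            simp [bMk_coe]
            field_simp⟩
          left_inv := fun x => by
            apply Subtype.ext
            show ((borelEquiv.symm (borelEquiv _) : borel F) : SL2) = _
            rw [Equiv.symm_apply_apply]
          right_inv := fun p => Subtype.ext (borelEquiv.apply_symm_apply p.1) }
      rw [Nat.card_congr e, Nat.card_eq_fintype_card, Fintype.card_subtype, Finset.natCast_card_filter,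
        Fintype.sum_prod_type]
    simp only [key, Finset.mul_sum]
    rw [Finset.sum_comm]
    refine Finset.sum_congr rfl fun a _ => ?_
    simp [Finset.sum_const, mul_ite, mul_comm]

/-- Column orthogonality with explicit conjugators. -/
theorem sum_col {G : Type*} [Group G] [Finite G] (g h : G) :
    ∑ χ : Cfsg.IrrCharacter G, (χ : G → ℂ) g * conj ((χ : G → ℂ) h) =
      (Nat.card {x : G // x * g = h * x} : ℂ) := by
  classical
  rw [CfsgLib.Char.sum_mul_conj]
  split_ifs with hc
  · obtain ⟨c, hc⟩ := isConj_iff.1 hc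
    congr 1
    refine Nat.card_congr (Equiv.subtypeEquiv (Equiv.mulLeft c) fun x => ?_)
    rw [Subgroup.mem_centralizer_singleton_iff, Equiv.coe_mulLeft, ← hc]
    constructor <;> intro e
    · calc c * x * g = c * (x * g) := by group
        _ = c * (g * x) := by rw [e]
        _ = _ := by group
    · have : c * (x * g) = c * (g * x) := by
        calc c * (x * g) = c * x * g := by group
          _ = c * g * c⁻¹ * (c * x) := e
          _ = _ := by group
      exact mul_left_cancel this
  · have : IsEmpty {x : G // x * g = h * x} :=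
      ⟨fun x => hc (isConj_iff.2 ⟨x.1, by rw [x.2]; group⟩)⟩
    simp

variable (ψ : AddChar F ℂ)

/-- Multiplicity of the character `b ↦ ψ (t * b)` of the root group. -/
noncomputable def coef (t : F) (χ : SL2 → ℂ) : ℂ :=
  (Fintype.card F : ℂ)⁻¹ * ∑ b : F, χ (u b) * conj (ψ (t * b))

theorem exists_nat_coef {χ : SL2 → ℂ} (hχ : Cfsg.IsCharacter SL2 χ) (t : F) :
    ∃ n : ℕ, coef ψ t χ = n := by
  let f : Multiplicative F →* ℂˣ := (ψ.mulShift t).toMonoidHom.toHomUnits
  obtain ⟨n, hn⟩ := CfsgLib.Char.IsCharacter.exists_nat_classInner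
    (CfsgLib.Char.IsCharacter.comp hχ uHom) (CfsgLib.Char.isIrrCharacter_linear f)
  refine ⟨n, hn ▸ ?_⟩
  unfold coef Cfsg.classInner
  rw [Nat.card_congr (Multiplicative.toAdd : Multiplicative F ≃ F), Nat.card_eq_fintype_card]
  congr 1
  exact (Fintype.sum_equiv Multiplicative.toAdd _ _ fun b => by
    simp [f, uHom, AddChar.mulShift_apply]).symm

variable {ψ}

theorem coef_scale {χ : SL2 → ℂ} (hχ : Cfsg.IsClassFunction SL2 χ) (a : Fˣ) (t : F) :
    coef ψ ((a : F) ^ 2 * t) χ = coef ψ t χ := by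
  unfold coef
  congr 1
  refine Fintype.sum_equiv (Equiv.mulLeft₀ ((a : F) ^ 2) (pow_ne_zero _ a.ne_zero)) _ _ fun b => ?_
  simp only [Equiv.mulLeft₀_apply]
  rw [← u_conj a b, hχ, mul_comm ((a : F) ^ 2) t, mul_assoc]

theorem sum_coef (hψ : ψ.IsPrimitive) (χ : SL2 → ℂ) : ∑ t : F, coef ψ t χ = χ 1 := by
  unfold coef
  rw [← Finset.mul_sum, Finset.sum_comm]
  simp only [← Finset.mul_sum, ← map_sum, AddChar.sum_mulShift _ hψ]
  rw [Finset.sum_eq_single (0 : F) (fun b _ hb => by simp [hb]) (by simp)]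
  simp only [if_true, map_natCast, u_zero]
  field_simp

theorem gram (hψ : ψ.IsPrimitive) (s t : F) :
    ∑ χ : Cfsg.IrrCharacter SL2, coef ψ s (χ : SL2 → ℂ) * conj (coef ψ t (χ : SL2 → ℂ)) =
      (Fintype.card F : ℂ) - 1 + (Finset.univ.filter fun a : Fˣ => t * (a : F) ^ 2 = s).card := by
  classical
  set q : ℂ := (Fintype.card F : ℂ) with hqdef
  have hq : q ≠ 0 := Nat.cast_ne_zero.2 Fintype.card_ne_zero
  have h1 : ∑ χ : Cfsg.IrrCharacter SL2, coef ψ s (χ : SL2 → ℂ) * conj (coef ψ t (χ : SL2 → ℂ)) =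
      q⁻¹ * q⁻¹ * ∑ b : F, conj (ψ (s * b)) *
        ∑ d : F, ψ (t * d) * (Nat.card {x : SL2 // x * u b = u d * x} : ℂ) := by
    have hc : ∀ χ : Cfsg.IrrCharacter SL2,
        coef ψ s (χ : SL2 → ℂ) * conj (coef ψ t (χ : SL2 → ℂ)) =
        q⁻¹ * q⁻¹ * ∑ b : F, ∑ d : F, conj (ψ (s * b)) * (ψ (t * d) *
          ((χ : SL2 → ℂ) (u b) * conj ((χ : SL2 → ℂ) (u d)))) := by
      intro χ
      unfold coef
      rw [map_mul, map_inv₀, map_natCast, map_sum, mul_mul_mul_comm, Finset.sum_mul_sum]
      congr 1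
      refine Finset.sum_congr rfl fun b _ => Finset.sum_congr rfl fun d _ => ?_
      rw [(starRingEnd ℂ).map_mul, Complex.conj_conj]
      ring
    simp only [hc, ← Finset.mul_sum]
    congr 1
    rw [Finset.sum_comm]
    refine Finset.sum_congr rfl fun b _ => ?_
    simp only [← sum_col, Finset.mul_sum]
    rw [Finset.sum_comm]
  rw [h1]
  simp only [sum_conj_u (fun d => ψ (t * d)), mul_zero, AddChar.map_zero_eq_one, one_mul, mul_ite]
  rw [← Finset.add_sum_erase _ _ (Finset.mem_univ (0 : F)), if_pos rfl,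
    Finset.sum_congr rfl (fun b hb => if_neg (Finset.ne_of_mem_erase hb)), mul_zero,
    AddChar.map_zero_eq_one, map_one, one_mul]
  have key : ∀ a : Fˣ, ∑ b ∈ Finset.univ.erase (0 : F), conj (ψ (s * b)) * ψ (t * ((a : F) ^ 2 * b))
      = (if t * (a : F) ^ 2 = s then q else 0) - 1 := by
    intro a
    have he : ∀ b : F, conj (ψ (s * b)) * ψ (t * ((a : F) ^ 2 * b)) =
        ψ (b * (t * (a : F) ^ 2 - s)) := by
      intro b
      rw [← AddChar.map_neg_eq_conj, ← AddChar.map_add_eq_mul]
      congr 1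
      ring
    simp only [he]
    rw [Finset.sum_erase_eq_sub (Finset.mem_univ _), AddChar.sum_mulShift _ hψ, zero_mul,
      AddChar.map_zero_eq_one]
    simp only [sub_eq_zero, Nat.cast_ite, Nat.cast_zero, hqdef]
  have h2 : ∑ b ∈ Finset.univ.erase (0 : F), conj (ψ (s * b)) *
      (q * ∑ a : Fˣ, ψ (t * ((a : F) ^ 2 * b))) =
      q * (q * (Finset.univ.filter fun a : Fˣ => t * (a : F) ^ 2 = s).card - (q - 1)) := by
    rw [Finset.sum_congr rfl (fun b _ => mul_left_comm _ _ _), ← Finset.mul_sum]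
    congr 1
    simp only [Finset.mul_sum]
    rw [Finset.sum_comm, Finset.sum_congr rfl (fun a _ => key a), Finset.sum_sub_distrib,
      ← Finset.sum_filter, Finset.sum_const, Finset.sum_const, Finset.card_univ,
      Fintype.card_units, nsmul_eq_mul, nsmul_eq_mul, mul_one, Nat.cast_sub Fintype.card_pos,
      Nat.cast_one]
    ring
  have hG : (Nat.card SL2 : ℂ) = q * (q - 1) * (q + 1) := by
    rw [card_SL2_eq_mul_borel, card_borel, Nat.cast_mul, Nat.cast_mul,
      Nat.cast_sub Fintype.card_pos]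
    push_cast
    ring
  rw [h2, hG]
  field_simp
  ring

theorem gram_twisted (hψ : ψ.IsPrimitive) (h2 : (2 : F) ≠ 0) (ε : Cfsg.IrrCharacter SL2 → ℂ)
    (hε : ∀ (χ : Cfsg.IrrCharacter SL2) g, (χ : SL2 → ℂ) ((-1 : SL2) * g) = ε χ * (χ : SL2 → ℂ) g)
    (s t : F) :
    ∑ χ : Cfsg.IrrCharacter SL2, ε χ *
      (coef ψ s (χ : SL2 → ℂ) * conj (coef ψ t (χ : SL2 → ℂ))) = 0 := by
  classical
  have hzero : ∀ b d : F, ∑ χ : Cfsg.IrrCharacter SL2,
      ε χ * ((χ : SL2 → ℂ) (u b) * conj ((χ : SL2 → ℂ) (u d))) = 0 := by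
    intro b d
    simp only [← mul_assoc, ← hε]
    rw [CfsgLib.Char.sum_mul_conj, if_neg]
    intro hc
    obtain ⟨x, hx⟩ := isConj_iff.1 hc
    have h4 := congrArg (fun g : SL2 => (g : Matrix (Fin 2) (Fin 2) F).trace) hx
    simp only [trace_mul_mul_inv] at h4
    rw [Matrix.trace_fin_two, Matrix.trace_fin_two, coe_u, Matrix.SpecialLinearGroup.coe_mul,
      coe_u, Matrix.SpecialLinearGroup.coe_neg, Matrix.SpecialLinearGroup.coe_one] at h4
    simp at h4
    exact h2 (mul_self_eq_zero.1 (show (2 : F) * 2 = 0 by linear_combination -h4))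
  calc ∑ χ : Cfsg.IrrCharacter SL2, ε χ *
      (coef ψ s (χ : SL2 → ℂ) * conj (coef ψ t (χ : SL2 → ℂ)))
      = ∑ χ : Cfsg.IrrCharacter SL2, ∑ b : F, ∑ d : F,
          (Fintype.card F : ℂ)⁻¹ * (Fintype.card F : ℂ)⁻¹ * (conj (ψ (s * b)) * ψ (t * d)) *
            (ε χ * ((χ : SL2 → ℂ) (u b) * conj ((χ : SL2 → ℂ) (u d)))) := by
        refine Finset.sum_congr rfl fun χ _ => ?_
        unfold coef
        rw [map_mul, map_inv₀, map_natCast, map_sum, mul_mul_mul_comm, Finset.sum_mul_sum]
        simp only [Finset.mul_sum]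
        refine Finset.sum_congr rfl fun b _ => Finset.sum_congr rfl fun d _ => ?_
        rw [(starRingEnd ℂ).map_mul, Complex.conj_conj]
        ring
    _ = 0 := by
        rw [Finset.sum_comm]
        refine Finset.sum_eq_zero fun b _ => ?_
        rw [Finset.sum_comm]
        refine Finset.sum_eq_zero fun d _ => ?_
        rw [← Finset.mul_sum, hzero, mul_zero]

end CfsgLib.SL2Deg
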