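import Cfsg.Agent.Lib.SL2Deg.Classify

/-! Natural multiplicities on the root group, and the constituents of the principal series. -/

set_option autoImplicit false

open scoped ComplexConjugate
open Matrix CfsgLib.SL2Trace CfsgLib.SL2Borel

namespace CfsgLib.SL2Deg

variable {F : Type*} [Field F] [Fintype F] [DecidableEq F]

local notation "SL2" => Matrix.SpecialLinearGroup (Fin 2) F

attribute [local instance] fintypeMulChar

variable {ψ : AddChar F ℂ}

variable (ψ) in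
/-- The multiplicity as a natural number. -/
noncomputable def mult (t : F) (χ : Cfsg.IrrCharacter SL2) : ℕ :=
  (exists_nat_coef ψ (CfsgLib.Char.IsIrrCharacter.isCharacter χ.2) t).choose

theorem mult_spec (t : F) (χ : Cfsg.IrrCharacter SL2) :
    coef ψ t (χ : SL2 → ℂ) = (mult ψ t χ : ℂ) :=
  (exists_nat_coef ψ (CfsgLib.Char.IsIrrCharacter.isCharacter χ.2) t).choose_spec

theorem mult_eq_of {t : F} {χ : Cfsg.IrrCharacter SL2} {n : ℕ}
    (h : coef ψ t (χ : SL2 → ℂ) = n) : mult ψ t χ = n :=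
  Nat.cast_injective (R := ℂ) ((mult_spec t χ).symm.trans h)

theorem mult_scale (a : Fˣ) (t : F) (χ : Cfsg.IrrCharacter SL2) :
    mult ψ ((a : F) ^ 2 * t) χ = mult ψ t χ :=
  mult_eq_of ((coef_scale (CfsgLib.Char.IsIrrCharacter.isClassFunction χ.2) a t).trans
    (mult_spec t χ))

theorem gram_nat (hψ : ψ.IsPrimitive) (s t : F) :
    ∑ χ : Cfsg.IrrCharacter SL2, mult ψ s χ * mult ψ t χ + 1 =
      Fintype.card F + (Finset.univ.filter fun a : Fˣ => t * (a : F) ^ 2 = s).card := by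
  have h := gram hψ s t
  simp only [mult_spec, map_natCast] at h
  have h' : ((∑ χ : Cfsg.IrrCharacter SL2, mult ψ s χ * mult ψ t χ + 1 : ℕ) : ℂ) =
      ((Fintype.card F + (Finset.univ.filter fun a : Fˣ => t * (a : F) ^ 2 = s).card : ℕ) : ℂ) := by
    push_cast
    rw [h]
    ring
  exact_mod_cast h'

theorem gram_zero_zero (hψ : ψ.IsPrimitive) :
    ∑ χ : Cfsg.IrrCharacter SL2, mult ψ 0 χ * mult ψ 0 χ + 2 = 2 * Fintype.card F := by
  have h := gram_nat hψ (0 : F) 0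
  rw [Finset.filter_true_of_mem (fun a _ => by simp), Finset.card_univ, Fintype.card_units] at h
  have := Fintype.card_pos (α := F)
  omega

theorem gram_zero (hψ : ψ.IsPrimitive) {t : F} (ht : t ≠ 0) :
    ∑ χ : Cfsg.IrrCharacter SL2, mult ψ 0 χ * mult ψ t χ + 1 = Fintype.card F := by
  have h := gram_nat hψ (0 : F) t
  rw [Finset.filter_false_of_mem (fun a _ => mul_ne_zero ht (pow_ne_zero 2 a.ne_zero)),
    Finset.card_empty, add_zero] at h
  exact h

theorem apply_one_eq_sum (hψ : ψ.IsPrimitive) (χ : Cfsg.IrrCharacter SL2) :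
    (χ : SL2 → ℂ) 1 = ((∑ t : F, mult ψ t χ : ℕ) : ℂ) := by
  rw [← sum_coef hψ (χ : SL2 → ℂ)]
  simp [mult_spec]

theorem exists_R_constituent (χ : Cfsg.IrrCharacter SL2) (h : mult ψ 0 χ ≠ 0) :
    ∃ α : MulChar F ℂ, Cfsg.classInner (R α) (χ : SL2 → ℂ) ≠ 0 := by
  by_contra hc
  push Not at hc
  have hs := sum_classInner_R ψ (CfsgLib.Char.IsIrrCharacter.isClassFunction χ.2)
  rw [Finset.sum_eq_zero (fun α _ => hc α), mult_spec, map_natCast] at hs
  exact h (by exact_mod_cast hs.symm)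

theorem mult_zero_ne_zero {α : MulChar F ℂ} {χ : Cfsg.IrrCharacter SL2}
    (h : Cfsg.classInner (R α) (χ : SL2 → ℂ) ≠ 0) : mult ψ 0 χ ≠ 0 := by
  have hn : ∀ β : MulChar F ℂ, ∃ n : ℕ, Cfsg.classInner (R β) (χ : SL2 → ℂ) = n := fun β =>
    CfsgLib.Char.IsCharacter.exists_nat_classInner (exists_nat_classInner_R β) χ.2
  choose n hn using hn
  have hs := sum_classInner_R ψ (CfsgLib.Char.IsIrrCharacter.isClassFunction χ.2)
  simp only [hn, mult_spec, map_natCast] at hs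
  have hs' : ∑ β, n β = mult ψ 0 χ := by exact_mod_cast hs
  intro h0
  rw [h0, Finset.sum_eq_zero_iff] at hs'
  exact h (by rw [hn, hs' α (Finset.mem_univ α), Nat.cast_zero])

/-- Constituents of a non-real principal series function. -/
theorem mult_of_nonreal (hψ : ψ.IsPrimitive) {α : MulChar F ℂ} {χ : Cfsg.IrrCharacter SL2}
    (hα : α⁻¹ ≠ α) (h : Cfsg.classInner (R α) (χ : SL2 → ℂ) ≠ 0) (t : F) :
    mult ψ t χ = 1 + (if t = 0 then 1 else 0) := by
  classical
  have h1 : Cfsg.classInner (R α) (R α) = 1 := by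
    rw [classInner_R, if_pos rfl, if_neg (fun e => hα e.symm), add_zero]
  have hirr := CfsgLib.Char.IsCharacter.isIrrCharacter_of_classInner_self
    (exists_nat_classInner_R α) h1
  refine mult_eq_of ?_
  rw [← CfsgLib.Char.eq_of_classInner_ne_zero hirr χ.2 h, coef_R ψ hψ]
  push_cast
  rfl

theorem real_apply_sq {α : MulChar F ℂ} (hα : α⁻¹ = α) {c : F} (hc : c ≠ 0) :
    α (c ^ 2) = 1 := by
  have h1 : (α⁻¹ * α) c = (1 : MulChar F ℂ) c := by rw [inv_mul_cancel]
  rw [MulChar.mul_apply, hα, MulChar.one_apply (isUnit_iff_ne_zero.2 hc)] at h1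
  rw [pow_two, map_mul, h1]

theorem real_eq_one_of_square {α : MulChar F ℂ} (hα : α⁻¹ = α)
    (h : ∀ a : Fˣ, ¬ IsSquare (a : F) → α (a : F) = 1) : α = 1 := by
  refine MulChar.ext fun a => ?_
  rw [MulChar.one_apply_coe]
  by_cases ha : IsSquare (a : F)
  · obtain ⟨c, hc⟩ := ha
    rw [hc, ← pow_two]
    exact real_apply_sq hα (fun e => a.ne_zero (by rw [hc, e, mul_zero]))
  · exact h a ha

theorem isSquare_div_of_not {ν t : F} (hν : ¬ IsSquare ν) (ht : ¬ IsSquare t) :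
    ∃ c : F, c ≠ 0 ∧ c ^ 2 * ν = t := by
  have hν0 : ν ≠ 0 := fun e => hν (by rw [e]; exact IsSquare.zero)
  have ht0 : t ≠ 0 := fun e => ht (by rw [e]; exact IsSquare.zero)
  have hsq : IsSquare (t * ν) := by
    rw [← quadraticChar_one_iff_isSquare (mul_ne_zero ht0 hν0), map_mul,
      quadraticChar_neg_one_iff_not_isSquare.2 hν, quadraticChar_neg_one_iff_not_isSquare.2 ht]
    norm_num
  obtain ⟨d, hd⟩ := hsq
  refine ⟨d / ν, div_ne_zero (fun e => mul_ne_zero ht0 hν0 (by rw [hd, e, mul_zero])) hν0, ?_⟩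
  field_simp
  linear_combination -hd

theorem real_unique {α β : MulChar F ℂ} (hα : α⁻¹ = α) (hβ : β⁻¹ = β) (hα1 : α ≠ 1) (hβ1 : β ≠ 1) :
    α = β := by
  have key : ∀ {γ : MulChar F ℂ}, γ⁻¹ = γ → γ ≠ 1 → ∀ a : Fˣ, ¬ IsSquare (a : F) → γ (a : F) = -1 := by
    intro γ hγ hγ1 a ha
    have h2 : γ (a : F) * γ (a : F) = 1 := by
      rw [← map_mul, ← pow_two]; exact real_apply_sq hγ a.ne_zero
    rcases mul_self_eq_one_iff.1 h2 with e | e
    · refine absurd (real_eq_one_of_square hγ fun b hb => ?_) hγ1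
      obtain ⟨c, hc0, hc⟩ := isSquare_div_of_not ha hb
      rw [← hc, map_mul, real_apply_sq hγ hc0, one_mul, e]
    · exact e
  refine MulChar.ext fun a => ?_
  by_cases ha : IsSquare (a : F)
  · obtain ⟨c, hc⟩ := ha
    have hc0 : c ≠ 0 := fun e => a.ne_zero (by rw [hc, e, mul_zero])
    rw [hc, ← pow_two, real_apply_sq hα hc0, real_apply_sq hβ hc0]
  · rw [key hα hα1 a ha, key hβ hβ1 a ha]

/-- The principal and Steinberg characters. -/
theorem exists_principal_pair (hψ : ψ.IsPrimitive) :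
    ∃ P St : Cfsg.IrrCharacter SL2, P ≠ St ∧ (P : SL2 → ℂ) = (fun _ => 1) ∧
      (∀ g, (St : SL2 → ℂ) g = R (1 : MulChar F ℂ) g - 1) ∧
      (∀ t : F, mult ψ t P = if t = 0 then 1 else 0) ∧ (∀ t : F, mult ψ t St = 1) ∧
      ∀ χ : Cfsg.IrrCharacter SL2, Cfsg.classInner (R (1 : MulChar F ℂ)) (χ : SL2 → ℂ) ≠ 0 →
        χ = P ∨ χ = St := by
  classical
  have h2 : Cfsg.classInner (R (1 : MulChar F ℂ)) (R (1 : MulChar F ℂ)) = 2 := by
    rw [classInner_R, if_pos rfl, if_pos inv_one.symm]; norm_num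
  obtain ⟨A, B, hAB, hsum, hcov⟩ := two_constituents (exists_nat_classInner_R _) h2
  have hP := hcov CfsgLib.Char.principalIrr (by
    rw [show ((CfsgLib.Char.principalIrr : Cfsg.IrrCharacter SL2) : SL2 → ℂ) = fun _ => 1 from rfl,
      R_one_one_inner]
    exact one_ne_zero)
  obtain ⟨P, St, hne, hsum', hcov', hP'⟩ : ∃ P St : Cfsg.IrrCharacter SL2, P ≠ St ∧
      R (1 : MulChar F ℂ) = (P : SL2 → ℂ) + (St : SL2 → ℂ) ∧
      (∀ χ : Cfsg.IrrCharacter SL2, Cfsg.classInner (R (1 : MulChar F ℂ)) (χ : SL2 → ℂ) ≠ 0 →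
        χ = P ∨ χ = St) ∧ (P : SL2 → ℂ) = fun _ => 1 := by
    rcases hP with e | e
    · exact ⟨A, B, hAB, hsum, hcov, by rw [← e]; rfl⟩
    · exact ⟨B, A, hAB.symm, by rw [hsum, add_comm], fun χ h => (hcov χ h).symm, by rw [← e]; rfl⟩
  refine ⟨P, St, hne, hP', fun g => ?_, fun t => ?_, fun t => ?_, hcov'⟩
  · rw [hsum', hP', Pi.add_apply]; ring
  · refine mult_eq_of ?_
    rw [hP', coef_one ψ hψ]
    split_ifs <;> simp
  · refine mult_eq_of ?_
    have h := coef_R ψ hψ (1 : MulChar F ℂ) t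
    rw [hsum', coef_add, hP', coef_one ψ hψ] at h
    push_cast
    linear_combination h

theorem exists_ne_zero_mult (hψ : ψ.IsPrimitive) (χ : Cfsg.IrrCharacter SL2) :
    ∃ t : F, mult ψ t χ ≠ 0 := by
  by_contra hc
  push Not at hc
  refine CfsgLib.Char.IsIrrCharacter.apply_one_ne_zero χ.2 ?_
  rw [apply_one_eq_sum hψ χ, Finset.sum_eq_zero (fun t _ => hc t), Nat.cast_zero]

end CfsgLib.SL2Deg
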